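import Mathlib.RingTheory.MvPolynomial.EulerIdentity
import Mathlib.Algebra.MvPolynomial.PDeriv
import Mathlib.Algebra.MvPolynomial.Funext
import Mathlib.LinearAlgebra.Matrix.ToLin
import Mathlib.LinearAlgebra.FiniteDimensional.Basic
import Mathlib.LinearAlgebra.FiniteDimensional.Lemmas
import Mathlib.LinearAlgebra.Dimension.Constructions
import Mathlib.Tactic

/-! Homogeneous cubics as trilinear forms, with the expansion along a line. -/

set_option autoImplicit false

namespace Groth.Agent.CubicLead

open MvPolynomial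

variable {k : Type*} [Field k] {n : ℕ}

lemma euler_split [CharZero k] {g : MvPolynomial (Fin n) k} {d : ℕ}
    (h : g.IsHomogeneous (d + 1)) :
    g = ∑ i, C ((d + 1 : k)⁻¹) * (X i * pderiv i g) := by
  rw [← Finset.mul_sum, h.sum_X_mul_pderiv, nsmul_eq_mul, ← map_natCast (C (σ := Fin n) (R := k)),
    ← mul_assoc, ← map_mul, Nat.cast_add, Nat.cast_one,
    inv_mul_cancel₀ (Nat.cast_add_one_ne_zero d), map_one, one_mul]

lemma exists_coeff [CharZero k] {f : MvPolynomial (Fin n) k} (hf : f.IsHomogeneous 3) :
    ∃ c : Fin n → Fin n → Fin n → k,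
      f = ∑ i, ∑ j, ∑ l, C (c i j l) * (X i * X j * X l) := by
  refine ⟨fun i j l => 3⁻¹ * 2⁻¹ * coeff 0 (pderiv l (pderiv j (pderiv i f))), ?_⟩
  conv_lhs => rw [euler_split (d := 2) hf]
  refine Finset.sum_congr rfl fun i _ => ?_
  have h1 : (pderiv i f).IsHomogeneous 2 := hf.pderiv
  conv_lhs => rw [euler_split (d := 1) h1]
  simp only [Finset.mul_sum]
  refine Finset.sum_congr rfl fun j _ => ?_
  have h2 : (pderiv j (pderiv i f)).IsHomogeneous 1 := h1.pderiv
  conv_lhs => rw [euler_split (d := 0) h2]
  simp only [Finset.mul_sum]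
  refine Finset.sum_congr rfl fun l _ => ?_
  have h3 : (pderiv l (pderiv j (pderiv i f))).IsHomogeneous 0 := h2.pderiv
  conv_lhs => rw [totalDegree_eq_zero_iff_eq_C.1 (Nat.le_zero.1 h3.totalDegree_le)]
  simp only [map_mul]
  norm_num
  ring

variable (c : Fin n → Fin n → Fin n → k)

/-- The trilinear form of a coefficient system. -/
def tri (u v w : Fin n → k) : k := ∑ i, ∑ j, ∑ l, c i j l * (u i * v j * w l)

lemma tri_add₁ (u u' v w : Fin n → k) : tri c (u + u') v w = tri c u v w + tri c u' v w := by
  simp [tri, add_mul, mul_add, Finset.sum_add_distrib]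
lemma tri_add₂ (u v v' w : Fin n → k) : tri c u (v + v') w = tri c u v w + tri c u v' w := by
  simp [tri, add_mul, mul_add, Finset.sum_add_distrib]
lemma tri_add₃ (u v w w' : Fin n → k) : tri c u v (w + w') = tri c u v w + tri c u v w' := by
  simp [tri, mul_add, Finset.sum_add_distrib]
lemma tri_smul₁ (a : k) (u v w : Fin n → k) : tri c (a • u) v w = a * tri c u v w := by
  simp [tri, Finset.mul_sum, mul_assoc, mul_left_comm]
lemma tri_smul₂ (a : k) (u v w : Fin n → k) : tri c u (a • v) w = a * tri c u v w := by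
  simp [tri, Finset.mul_sum, mul_assoc, mul_left_comm]
lemma tri_smul₃ (a : k) (u v w : Fin n → k) : tri c u v (a • w) = a * tri c u v w := by
  simp [tri, Finset.mul_sum, mul_assoc, mul_left_comm]

/-- The symmetrised trilinear form (six times the polar form). -/
def sym (u v w : Fin n → k) : k :=
  tri c u v w + tri c u w v + tri c v u w + tri c v w u + tri c w u v + tri c w v u

/-- The coefficient of `t` in `f (v + t • e)`: the derivative of `f` at `v` along `e`. -/
def quad (e v : Fin n → k) : k := tri c v v e + tri c v e v + tri c e v v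

lemma quad_add_right (e v w : Fin n → k) :
    quad c e (v + w) = quad c e v + sym c e v w + quad c e w := by
  simp only [quad, sym, tri_add₁, tri_add₂, tri_add₃]; ring

lemma quad_smul_right (e v : Fin n → k) (a : k) : quad c e (a • v) = a ^ 2 * quad c e v := by
  simp only [quad, tri_smul₁, tri_smul₂, tri_smul₃]; ring

/-- The derivative of `f` at `v`, as a linear form in the direction. -/
def grad (v : Fin n → k) : (Fin n → k) →ₗ[k] k where
  toFun e := quad c e v
  map_add' a b := by simp only [quad, tri_add₁, tri_add₂, tri_add₃]; ring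
  map_smul' a b := by
    simp only [quad, tri_smul₁, tri_smul₂, tri_smul₃, smul_eq_mul, RingHom.id_apply]; ring

/-- The symmetrised form as a linear map in its last variable. -/
def symL (u v : Fin n → k) : (Fin n → k) →ₗ[k] k where
  toFun w := sym c u v w
  map_add' a b := by simp only [sym, tri_add₁, tri_add₂, tri_add₃]; ring
  map_smul' a b := by
    simp only [sym, tri_smul₁, tri_smul₂, tri_smul₃, smul_eq_mul, RingHom.id_apply]; ring

lemma grad_apply (v e : Fin n → k) : grad c v e = quad c e v := rfl

lemma symL_apply (u v w : Fin n → k) : symL c u v w = sym c u v w := rfl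

/-- `c` is a coefficient system of `f`. -/
def Rep (f : MvPolynomial (Fin n) k) : Prop :=
  f = ∑ i, ∑ j, ∑ l, C (c i j l) * (X i * X j * X l)

variable {c} {f : MvPolynomial (Fin n) k}

lemma Rep.eval_eq (hc : Rep c f) (v : Fin n → k) : eval v f = tri c v v v := by
  rw [show f = _ from hc]; simp [tri]

lemma Rep.eval_pderiv (hc : Rep c f) (v : Fin n → k) (i : Fin n) :
    eval v (pderiv i f) = grad c v (Pi.single i 1) := by
  classical
  rw [show f = _ from hc, grad_apply]
  simp only [map_sum, Derivation.leibniz, pderiv_C, pderiv_X, quad, tri, smul_eq_mul,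
    map_add, map_mul, eval_C, eval_X, mul_zero, add_zero, ← Finset.sum_add_distrib]
  refine Finset.sum_congr rfl fun x _ => Finset.sum_congr rfl fun y _ =>
    Finset.sum_congr rfl fun z _ => ?_
  simp only [Pi.single_apply, apply_ite (eval v), map_one, map_zero]
  ring

/-- Expansion along a line. -/
lemma Rep.expand (hc : Rep c f) (v e : Fin n → k) (t : k) : eval (v + t • e) f =
    eval v f + t * quad c e v + t ^ 2 * quad c v e + t ^ 3 * eval e f := by
  rw [hc.eval_eq, hc.eval_eq, hc.eval_eq]
  simp only [quad, tri_add₁, tri_add₂, tri_add₃, tri_smul₁, tri_smul₂, tri_smul₃]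
  ring

lemma Rep.eval_smul (hc : Rep c f) (v : Fin n → k) (a : k) :
    eval (a • v) f = a ^ 3 * eval v f := by
  rw [hc.eval_eq, hc.eval_eq]
  simp only [tri_smul₁, tri_smul₂, tri_smul₃]
  ring

lemma Rep.quad_self (hc : Rep c f) (v : Fin n → k) : quad c v v = 3 * eval v f := by
  rw [hc.eval_eq]; simp only [quad]; ring

lemma Rep.sym_self (_ : Rep c f) (v e : Fin n → k) : sym c e v v = 2 * quad c e v := by
  simp only [sym, quad]; ring

lemma Rep.grad_eq_zero (hc : Rep c f) {v : Fin n → k} (h : grad c v = 0) (i : Fin n) :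
    eval v (pderiv i f) = 0 := by
  rw [hc.eval_pderiv, h]; rfl

/-- Smoothness: the gradient does not vanish at a nonzero zero. -/
lemma Rep.grad_ne_zero (hc : Rep c f)
    (hsm : ∀ v : Fin n → k, v ≠ 0 → eval v f = 0 → ∃ i : Fin n, eval v (pderiv i f) ≠ 0)
    {v : Fin n → k} (hv : v ≠ 0) (hfv : eval v f = 0) : grad c v ≠ 0 := fun h => by
  obtain ⟨i, hi⟩ := hsm v hv hfv
  exact hi (hc.grad_eq_zero h i)

/-- Evaluation of a linear substitution. -/
lemma eval_aeval_matrix (A : Matrix (Fin n) (Fin n) k) (g : MvPolynomial (Fin n) k)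
    (v : Fin n → k) :
    eval v (aeval (fun i : Fin n => ∑ j : Fin n, C (A i j) * X j) g) = eval (A.mulVec v) g := by
  induction g using MvPolynomial.induction_on with
  | C a => simp
  | add p q hp hq => simp only [map_add, hp, hq]
  | mul_X p i hp =>
    simp only [map_mul, hp, aeval_X, eval_X]
    congr 1
    simp [Matrix.mulVec, dotProduct]

lemma aeval_matrix_eq_iff [Infinite k] (A : Matrix (Fin n) (Fin n) k)
    (g g' : MvPolynomial (Fin n) k) :
    aeval (fun i : Fin n => ∑ j : Fin n, C (A i j) * X j) g = g' ↔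
      ∀ v, eval (A.mulVec v) g = eval v g' := by
  constructor
  · intro h v; rw [← eval_aeval_matrix, h]
  · intro h; exact MvPolynomial.funext fun v => by rw [eval_aeval_matrix, h]

/-- Finitely many (here: three) hyperplanes do not cover. -/
lemma eq_zero_of_mul_eq_zero [Infinite k] {a b : (Fin n → k) →ₗ[k] k}
    (h : ∀ v, a v * b v = 0) : a = 0 ∨ b = 0 := by
  by_contra hh
  rw [not_or] at hh
  obtain ⟨v, hv⟩ := DFunLike.ne_iff.1 hh.1
  obtain ⟨w, hw⟩ := DFunLike.ne_iff.1 hh.2
  simp only [LinearMap.zero_apply] at hv hw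
  have hbv : b v = 0 := (mul_eq_zero.1 (h v)).resolve_left hv
  have haw : a w = 0 := (mul_eq_zero.1 (h w)).resolve_right hw
  have := h (v + w)
  rw [map_add, map_add, hbv, haw, add_zero, zero_add] at this
  exact mul_ne_zero hv hw this

lemma eq_zero_of_mul_mul_eq_zero [Infinite k] {a b d : (Fin n → k) →ₗ[k] k}
    (ha : a ≠ 0) (hb : b ≠ 0) (h : ∀ v, a v * b v * d v = 0) : d = 0 := by
  obtain ⟨v, hv⟩ : ∃ v, a v * b v ≠ 0 := by
    by_contra hh
    simp only [not_exists, not_not] at hh
    rcases eq_zero_of_mul_eq_zero hh with h' | h'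
    · exact ha h'
    · exact hb h'
  rw [mul_ne_zero_iff] at hv
  refine LinearMap.ext fun w => ?_
  by_contra hdw
  simp only [LinearMap.zero_apply] at hdw
  classical
  have hdv : d v = 0 := (mul_eq_zero.1 (h v)).resolve_left (mul_ne_zero hv.1 hv.2)
  obtain ⟨t, ht⟩ := Infinite.exists_notMem_finset
    ({0, -(a w) / a v, -(b w) / b v} : Finset k)
  simp only [Finset.mem_insert, Finset.mem_singleton, not_or] at ht
  have := h (t • v + w)
  rw [map_add, map_add, map_add, map_smul, map_smul, map_smul, hdv, smul_zero, zero_add,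
    smul_eq_mul, smul_eq_mul] at this
  rcases mul_eq_zero.1 this with h' | h'
  · rcases mul_eq_zero.1 h' with h'' | h''
    · exact ht.2.1 (by rw [eq_div_iff hv.1]; linear_combination h'')
    · exact ht.2.2 (by rw [eq_div_iff hv.2]; linear_combination h'')
  · exact hdw h'

end Groth.Agent.CubicLead
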