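import Groth.Agent.CubicLead.Basic
import Mathlib.FieldTheory.IsAlgClosed.Basic
import Mathlib.Algebra.CharP.Lemmas

/-! Eckardt points of smooth cubic surfaces and their harmonic homologies. -/

set_option autoImplicit false

namespace Groth.Agent.CubicLead

open MvPolynomial

variable {k : Type*} [Field k]

/-- Smoothness of the projective hypersurface of `f`. -/
abbrev Sm {n : ℕ} (f : MvPolynomial (Fin n) k) : Prop :=
  ∀ v : Fin n → k, v ≠ 0 → eval v f = 0 → ∃ i : Fin n, eval v (pderiv i f) ≠ 0

/-- An Eckardt point. -/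
abbrev Eck (f : MvPolynomial (Fin 4) k) (e : Fin 4 → k) : Prop :=
  ∃ U : Fin 3 → Submodule k (Fin 4 → k), Function.Injective U ∧
    ∀ i : Fin 3, Module.finrank k ↥(U i) = 2 ∧ e ∈ U i ∧ ∀ u ∈ U i, eval u f = 0

/-- The conditions defining the Eckardt involution. -/
abbrev IsInv (f : MvPolynomial (Fin 4) k) (A : Matrix (Fin 4) (Fin 4) k) (p : Fin 4 → k) : Prop :=
  A * A = 1 ∧ Module.finrank k ↥(LinearMap.ker (Matrix.toLin' A - LinearMap.id)) = 3 ∧
    A.mulVec p = -p ∧ ∃ c : k, aeval (fun i : Fin 4 => ∑ j : Fin 4, C (A i j) * X j) f = C c * f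

/-- The expansion of `f` in direction `e` has harmonic symmetric form. -/
def Split (f : MvPolynomial (Fin 4) k) (e : Fin 4 → k) (l m : (Fin 4 → k) →ₗ[k] k) : Prop :=
  l e = 0 ∧ l ≠ 0 ∧ m e = 2 ∧ ∀ (v : Fin 4 → k) (t : k),
    eval (v + t • e) f = eval v f + l v * (t * m v + t ^ 2)

instance (priority := 100) infinite_of_charZero {F : Type*} [Field F] [CharZero F] : Infinite F :=
  Infinite.of_injective _ (Nat.cast_injective (R := F))

variable [CharZero k] {f : MvPolynomial (Fin 4) k} {c : Fin 4 → Fin 4 → Fin 4 → k}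

lemma quad_of_expand (hc : Rep c f) {v e : Fin 4 → k} {a b : k} (hfe : eval e f = 0)
    (h : ∀ t : k, eval (v + t • e) f = eval v f + (t * a + t ^ 2 * b)) :
    quad c e v = a ∧ quad c v e = b := by
  have h1 := hc.expand v e 1
  have h2 := hc.expand v e (-1)
  rw [h, hfe] at h1 h2
  constructor
  · linear_combination (h2 - h1) / 2
  · linear_combination -(h1 + h2) / 2

lemma finrank_V : Module.finrank k (Fin 4 → k) = 4 := Module.finrank_fin_fun k

lemma finrank_ker {l : (Fin 4 → k) →ₗ[k] k} (hl : l ≠ 0) :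
    Module.finrank k ↥(LinearMap.ker l) = 3 := by
  have h := LinearMap.finrank_range_add_finrank_ker l
  rw [LinearMap.range_eq_top.2 (LinearMap.surjective hl), finrank_top, Module.finrank_self,
    finrank_V] at h
  omega

lemma exists_eq_one {n : ℕ} {l : (Fin n → k) →ₗ[k] k} (hl : l ≠ 0) : ∃ w, l w = 1 :=
  LinearMap.surjective hl 1

lemma exists_in_line (U : Submodule k (Fin 4 → k)) (hU : Module.finrank k ↥U = 2) {e : Fin 4 → k}
    (he : e ≠ 0) (heU : e ∈ U) :
    ∃ u, u ∈ U ∧ u ∉ Submodule.span k {e} ∧ U = Submodule.span k {e, u} := by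
  have hne : ¬ U ≤ Submodule.span k {e} := by
    intro h
    have := Submodule.finrank_mono h
    rw [hU, finrank_span_singleton he] at this
    omega
  obtain ⟨u, hu, hu'⟩ := SetLike.not_le_iff_exists.1 hne
  refine ⟨u, hu, hu', (Submodule.eq_of_le_of_finrank_le ?_ ?_).symm⟩
  · rw [Submodule.span_le]
    rintro x (rfl | rfl)
    · exact heU
    · exact hu
  · rw [hU]
    have hli : LinearIndependent k ![e, u] := by
      rw [LinearIndependent.pair_iff' he]
      intro a h
      exact hu' (h ▸ Submodule.smul_mem _ a (Submodule.mem_span_singleton_self e))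
    have := finrank_span_eq_card hli
    rw [Fintype.card_fin, Matrix.range_cons_cons_empty] at this
    exact this.ge

lemma notMem_span_add {p y : Fin 4 → k} (hy : y ∉ Submodule.span k {p}) (a : k) :
    y + a • p ≠ 0 := fun h => hy (Submodule.mem_span_singleton.2
      ⟨-a, by rw [neg_smul]; exact (eq_neg_of_add_eq_zero_left h).symm⟩)

variable [IsAlgClosed k]

/-- A smooth cubic contains no line through `p` in its tangent plane along which the tangent
plane stays constant. -/
lemma no_cone (hc : Rep c f) (hsm : Sm f) {p y : Fin 4 → k} (hp : p ≠ 0) (hfp : eval p f = 0)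
    (hy : y ∉ Submodule.span k {p}) (hf : ∀ a : k, eval (y + a • p) f = 0)
    (hg : ∀ (a : k) (h : Fin 4 → k), grad c p h = 0 → grad c (y + a • p) h = 0) : False := by
  obtain ⟨w, hw⟩ := exists_eq_one (hc.grad_ne_zero hsm hp hfp)
  obtain ⟨s, hs⟩ := IsAlgClosed.exists_eq_mul_self (sym c w y p ^ 2 - 4 * quad c w y)
  set a : k := (-sym c w y p + s) / 2 with ha
  have hroot : grad c (y + a • p) w = 0 := by
    have hsy : sym c w y (a • p) = a * sym c w y p := by
      rw [← symL_apply, map_smul]; rfl
    rw [grad_apply, quad_add_right, hsy, quad_smul_right,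
      show quad c w p = 1 from hw, ha]
    linear_combination -hs / 4
  refine hc.grad_ne_zero hsm (notMem_span_add hy a) (hf a) (LinearMap.ext fun v => ?_)
  have h1 : grad c p (v - grad c p v • w) = 0 := by
    rw [map_sub, map_smul, hw, smul_eq_mul, mul_one, sub_self]
  have := hg a _ h1
  rw [map_sub, map_smul, hroot, smul_zero, sub_zero] at this
  exact this

/-- A smooth cubic surface does not contain its tangent plane at a point. -/
lemma no_plane (hc : Rep c f) (hsm : Sm f) {p : Fin 4 → k} (hp : p ≠ 0) (hfp : eval p f = 0)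
    (h : ∀ v, grad c p v = 0 → eval v f = 0) : False := by
  have hl := hc.grad_ne_zero hsm hp hfp
  have hgp : grad c p p = 0 := by rw [grad_apply, hc.quad_self, hfp, mul_zero]
  obtain ⟨y, hy, hy'⟩ : ∃ y, y ∈ LinearMap.ker (grad c p) ∧ y ∉ Submodule.span k {p} := by
    apply SetLike.not_le_iff_exists.1
    intro hle
    have := Submodule.finrank_mono hle
    rw [finrank_ker hl, finrank_span_singleton hp] at this
    omega
  have hy0 : grad c p y = 0 := hy
  have hin : ∀ a : k, grad c p (y + a • p) = 0 := fun a => by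
    rw [map_add, map_smul, hy0, hgp, smul_zero, add_zero]
  refine no_cone hc hsm hp hfp hy' (fun a => h _ (hin a)) (fun a v hv => ?_)
  have hzero : ∀ t : k, eval ((y + a • p) + t • v) f = eval (y + a • p) f + (t * 0 + t ^ 2 * 0) :=
    fun t => by
      rw [h _ (by rw [map_add, map_smul, hin, hv, smul_zero, add_zero]), h _ (hin a)]; ring
  exact (quad_of_expand hc (h v hv) hzero).1

omit [IsAlgClosed k] in
/-- At an Eckardt point there is a harmonic homology. -/
lemma exists_split (hc : Rep c f) (hsm : Sm f) {e : Fin 4 → k} (he : e ≠ 0) (hE : Eck f e) :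
    ∃ m, Split f e (grad c e) m := by
  classical
  obtain ⟨U, hU, hU'⟩ := hE
  have hfe : eval e f = 0 := (hU' 0).2.2 e (hU' 0).2.1
  have hl := hc.grad_ne_zero hsm he hfe
  have hle : grad c e e = 0 := by rw [grad_apply, hc.quad_self, hfe, mul_zero]
  have hexp : ∀ (v : Fin 4 → k) (t : k),
      eval (v + t • e) f = eval v f + t * quad c e v + t ^ 2 * grad c e v := by
    intro v t; rw [hc.expand, hfe, grad_apply]; ring
  have hline : ∀ i, ∀ u ∈ U i, quad c e u = 0 ∧ grad c e u = 0 := by
    intro i u hu
    have hfu := (hU' i).2.2 u hu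
    have H : ∀ t : k, t * quad c e u + t ^ 2 * grad c e u = 0 := by
      intro t
      have := hexp u t
      rw [(hU' i).2.2 _ ((U i).add_mem hu ((U i).smul_mem t (hU' i).2.1)), hfu] at this
      linear_combination -this
    constructor
    · linear_combination (H 1 - H (-1)) / 2
    · linear_combination (H 1 + H (-1)) / 2
  choose u hu hu' hUe using fun i => exists_in_line (U i) (hU' i).1 he (hU' i).2.1
  have hnot : ∀ i j, i ≠ j → u i ∉ U j := by
    intro i j hij h
    have hle' : U i ≤ U j := by
      rw [hUe i, Submodule.span_le]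
      rintro x (rfl | rfl)
      · exact (hU' j).2.1
      · exact h
    exact hij (hU (Submodule.eq_of_le_of_finrank_le hle' (by rw [(hU' i).1, (hU' j).1])))
  have hli : LinearIndependent k ![u 1, e, u 0] := by
    rw [show (![u 1, e, u 0] : Fin 3 → Fin 4 → k) = Fin.cons (u 1) ![e, u 0] from rfl,
      linearIndependent_finCons]
    refine ⟨?_, fun h => hnot 1 0 (by decide) ?_⟩
    · rw [LinearIndependent.pair_iff' he]
      intro a h
      exact hu' 0 (h ▸ Submodule.smul_mem _ a (Submodule.mem_span_singleton_self e))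
    · rw [Matrix.range_cons_cons_empty] at h
      rw [hUe 0]; exact h
  have hker : LinearMap.ker (grad c e) = Submodule.span k (Set.range ![u 1, e, u 0]) := by
    refine (Submodule.eq_of_le_of_finrank_le ?_ ?_).symm
    · rw [Submodule.span_le]
      rintro x ⟨i, rfl⟩
      fin_cases i
      · exact (hline 1 _ (hu 1)).2
      · exact hle
      · exact (hline 0 _ (hu 0)).2
    · rw [finrank_span_eq_card hli, Fintype.card_fin, finrank_ker hl]
  have hker' : ∀ v, grad c e v = 0 → ∃ a b d : k, v = a • u 1 + b • e + d • u 0 := by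
    intro v hv
    have : v ∈ LinearMap.ker (grad c e) := hv
    rw [hker, Submodule.mem_span_range_iff_exists_fun] at this
    obtain ⟨g, hg⟩ := this
    exact ⟨g 0, g 1, g 2, by rw [← hg, Fin.sum_univ_three]; rfl⟩
  have hq : ∀ a b d : k, quad c e (a • u 1 + b • e + d • u 0) =
      a * d * sym c e (u 1) (u 0) := by
    intro a b d
    have h1 : sym c e (a • u 1) (b • e) = 0 := by
      rw [show sym c e (a • u 1) (b • e) = 2 * a * b * quad c (u 1) e by
        simp only [sym, quad, tri_smul₁, tri_smul₂, tri_smul₃]; ring,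
        show quad c (u 1) e = 0 from (hline 1 _ (hu 1)).2, mul_zero]
    have h2 : sym c e (a • u 1 + b • e) (d • u 0) = a * d * sym c e (u 1) (u 0) := by
      rw [show sym c e (a • u 1 + b • e) (d • u 0) =
        a * d * sym c e (u 1) (u 0) + 2 * b * d * quad c (u 0) e by
        simp only [sym, quad, tri_add₁, tri_add₂, tri_add₃, tri_smul₁, tri_smul₂, tri_smul₃]; ring,
        show quad c (u 0) e = 0 from (hline 0 _ (hu 0)).2, mul_zero, add_zero]
    rw [quad_add_right, quad_add_right, h1, h2, quad_smul_right, quad_smul_right, quad_smul_right,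
      (hline 1 _ (hu 1)).1, (hline 0 _ (hu 0)).1, hc.quad_self, hfe]
    ring
  have hP : sym c e (u 1) (u 0) = 0 := by
    obtain ⟨a, b, d, h⟩ := hker' (u 2) (hline 2 _ (hu 2)).2
    have hq2 := (hline 2 _ (hu 2)).1
    rw [h, hq] at hq2
    rcases mul_eq_zero.1 hq2 with h' | h'
    · rcases mul_eq_zero.1 h' with h'' | h''
      · refine absurd ?_ (hnot 2 0 (by decide))
        rw [h, h'', zero_smul, zero_add]
        exact (U 0).add_mem ((U 0).smul_mem b (hU' 0).2.1) ((U 0).smul_mem d (hu 0))
      · refine absurd ?_ (hnot 2 1 (by decide))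
        rw [h, h'', zero_smul, add_zero]
        exact (U 1).add_mem ((U 1).smul_mem a (hu 1)) ((U 1).smul_mem b (hU' 1).2.1)
    · exact h'
  have hquad0 : ∀ v, grad c e v = 0 → quad c e v = 0 := by
    intro v hv
    obtain ⟨a, b, d, rfl⟩ := hker' v hv
    rw [hq, hP, mul_zero]
  obtain ⟨w, hw⟩ := exists_eq_one hl
  refine ⟨(quad c e w - sym c e w w) • grad c e + symL c e w, hle, hl, ?_, fun v t => ?_⟩
  · rw [LinearMap.add_apply, LinearMap.smul_apply, hle, smul_zero, zero_add, symL_apply,
      show sym c e w e = 2 * quad c w e by simp only [sym, quad]; ring,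
      show quad c w e = 1 from hw, mul_one]
  · rw [hexp]
    have hk : grad c e (v - grad c e v • w) = 0 := by
      rw [map_sub, map_smul, hw, smul_eq_mul, mul_one, sub_self]
    have h1 : quad c e v =
        grad c e v * ((quad c e w - sym c e w w) * grad c e v + sym c e w v) := by
      conv_lhs => rw [show v = grad c e v • w + (v - grad c e v • w) by abel]
      rw [quad_add_right, quad_smul_right, hquad0 _ hk,
        show sym c e (grad c e v • w) (v - grad c e v • w)
          = grad c e v * (sym c e w v - grad c e v * sym c e w w) by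
          rw [← symL_apply, map_sub, map_smul, symL_apply, symL_apply]
          simp only [sym, tri_smul₁, tri_smul₂, tri_smul₃, smul_eq_mul]
          ring]
      ring
    rw [h1, LinearMap.add_apply, LinearMap.smul_apply, symL_apply, smul_eq_mul]
    ring

section Refl

/-- The reflection `v ↦ v - μ v • p`. -/
def refl (μ : (Fin 4 → k) →ₗ[k] k) (p : Fin 4 → k) : (Fin 4 → k) →ₗ[k] (Fin 4 → k) :=
  LinearMap.id - μ.smulRight p

omit [CharZero k] [IsAlgClosed k] in
lemma refl_apply (μ : (Fin 4 → k) →ₗ[k] k) (p v : Fin 4 → k) : refl μ p v = v - μ v • p := by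
  simp [refl]

omit [IsAlgClosed k] in
/-- A harmonic homology preserving `f` up to a scalar is a reflection preserving `f`. -/
lemma IsInv.exists_refl (hc : Rep c f) (hsm : Sm f) {A : Matrix (Fin 4) (Fin 4) k}
    {p : Fin 4 → k} (hp : p ≠ 0) (hfp : eval p f = 0) (h : IsInv f A p) :
    ∃ μ : (Fin 4 → k) →ₗ[k] k, μ p = 2 ∧ (∀ v, A.mulVec v = refl μ p v) ∧
      ∀ v, eval (refl μ p v) f = eval v f := by
  obtain ⟨-, hH, hAp, a, ha⟩ := h
  obtain ⟨i, hi⟩ : ∃ i, p i ≠ 0 := Function.ne_iff.1 hp
  set D : (Fin 4 → k) →ₗ[k] (Fin 4 → k) := LinearMap.id - Matrix.toLin' A with hD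
  have hDp : D p = (2 : k) • p := by
    rw [hD, LinearMap.sub_apply, LinearMap.id_apply, Matrix.toLin'_apply, hAp, sub_neg_eq_add,
      two_smul]
  have hpH : p ∉ LinearMap.ker (Matrix.toLin' A - LinearMap.id) := by
    rw [LinearMap.mem_ker, LinearMap.sub_apply, LinearMap.id_apply, Matrix.toLin'_apply, hAp]
    intro hh
    have : (2 : k) • p = 0 := by rw [two_smul]; linear_combination (norm := module) -hh
    exact hp ((smul_eq_zero.1 this).resolve_left two_ne_zero)
  have htop : LinearMap.ker (Matrix.toLin' A - LinearMap.id) ⊔ Submodule.span k {p} = ⊤ := by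
    have hlt : LinearMap.ker (Matrix.toLin' A - LinearMap.id) <
        LinearMap.ker (Matrix.toLin' A - LinearMap.id) ⊔ Submodule.span k {p} :=
      left_lt_sup.2 fun hle => hpH (hle (Submodule.mem_span_singleton_self p))
    have := Submodule.finrank_lt_finrank_of_lt hlt
    apply Submodule.eq_top_of_finrank_eq
    have h4 := Submodule.finrank_le
      (LinearMap.ker (Matrix.toLin' A - LinearMap.id) ⊔ Submodule.span k {p})
    rw [finrank_V] at h4 ⊢
    omega
  let μ : (Fin 4 → k) →ₗ[k] k := (p i)⁻¹ • ((LinearMap.proj i).comp D)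
  have hμ : ∀ v, D v = μ v • p := by
    intro v
    obtain ⟨x, hx, y, hy, rfl⟩ :=
      Submodule.mem_sup.1 (htop ▸ (Submodule.mem_top : v ∈ (⊤ : Submodule k (Fin 4 → k))))
    obtain ⟨r, rfl⟩ := Submodule.mem_span_singleton.1 hy
    have hx0 : D x = 0 := by
      rw [LinearMap.mem_ker, LinearMap.sub_apply, sub_eq_zero] at hx
      rw [hD, LinearMap.sub_apply, hx, sub_self]
    have hv : D (x + r • p) = (r * 2) • p := by
      rw [map_add, map_smul, hx0, hDp, zero_add, mul_smul]
    rw [hv]
    congr 1
    simp only [μ, LinearMap.smul_apply, LinearMap.comp_apply, hv, LinearMap.proj_apply,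
      Pi.smul_apply, smul_eq_mul]
    field_simp
  have hμp : μ p = 2 := by
    have := hμ p
    rw [hDp] at this
    exact (smul_left_injective k hp this).symm
  have hA : ∀ v, A.mulVec v = refl μ p v := fun v => by
    rw [refl_apply, ← hμ, hD, LinearMap.sub_apply, LinearMap.id_apply, Matrix.toLin'_apply]
    abel
  refine ⟨μ, hμp, hA, ?_⟩
  rw [aeval_matrix_eq_iff] at ha
  simp only [map_mul, eval_C, hA] at ha
  obtain ⟨w, hw⟩ := exists_eq_one (hc.grad_ne_zero hsm hp hfp)
  have hgp : grad c p p = 0 := by rw [grad_apply, hc.quad_self, hfp, mul_zero]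
  have hexp : ∀ t : k, eval (refl μ p w + (-t) • p) f = a * eval (w + t • p) f := by
    intro t
    rw [← ha, map_add, map_smul, show refl μ p p = -p by rw [refl_apply, hμp, two_smul]; abel,
      neg_smul, smul_neg]
  have ha1 : a = 1 := by
    have e0 := hexp 0
    have e1 := hexp 1
    have e2 := hexp (-1)
    simp only [hc.expand _ p, hfp] at e0 e1 e2
    have hl1 : quad c (refl μ p w) p = 1 := by
      show grad c p (refl μ p w) = 1
      rw [refl_apply, map_sub, map_smul, hgp, smul_zero, sub_zero, hw]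
    have hl2 : quad c w p = 1 := hw
    rw [hl1, hl2] at e0 e1 e2
    linear_combination (2 * e0 - e1 - e2) / 2
  intro v
  rw [ha, ha1, one_mul]

omit [IsAlgClosed k] in
/-- Uniqueness of the harmonic homology at a point with a split expansion. -/
lemma IsInv.eq_refl (hc : Rep c f) (hsm : Sm f) {A : Matrix (Fin 4) (Fin 4) k}
    {p : Fin 4 → k} (hp : p ≠ 0) (hfp : eval p f = 0) {l m : (Fin 4 → k) →ₗ[k] k}
    (hs : Split f p l m) (h : IsInv f A p) : ∀ v, A.mulVec v = refl m p v := by
  obtain ⟨μ, hμp, hA, hμf⟩ := h.exists_refl hc hsm hp hfp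
  have hμ0 : μ ≠ 0 := fun h0 => by
    rw [h0, LinearMap.zero_apply] at hμp
    exact two_ne_zero hμp.symm
  have : μ - m = 0 := eq_zero_of_mul_mul_eq_zero hs.2.1 hμ0 fun v => by
    have := hμf v
    rw [refl_apply, sub_eq_add_neg, ← neg_smul, hs.2.2.2] at this
    rw [LinearMap.sub_apply]
    linear_combination this
  intro v
  rw [hA, sub_eq_zero.1 this]

omit [IsAlgClosed k] in
lemma refl_refl {μ : (Fin 4 → k) →ₗ[k] k} {p : Fin 4 → k} (hμ : μ p = 2) (v : Fin 4 → k) :
    refl μ p (refl μ p v) = v := by
  rw [refl_apply, refl_apply, map_sub, map_smul, hμ, smul_eq_mul, sub_smul, mul_comm, mul_smul,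
    two_smul]
  abel

omit [IsAlgClosed k] in
/-- The matrix of a reflection preserving `f` is a harmonic homology. -/
lemma isInv_refl {μ : (Fin 4 → k) →ₗ[k] k} {p : Fin 4 → k} (hp : p ≠ 0) (hμ : μ p = 2)
    (hf : ∀ v, eval (refl μ p v) f = eval v f) :
    IsInv f (LinearMap.toMatrix' (refl μ p)) p := by
  have hmv : ∀ v, (LinearMap.toMatrix' (refl μ p)).mulVec v = refl μ p v := fun v => by
    rw [← Matrix.toLin'_apply, Matrix.toLin'_toMatrix']
  refine ⟨?_, ?_, ?_, 1, ?_⟩
  · apply Matrix.toLin'.injective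
    refine LinearMap.ext fun v => ?_
    rw [Matrix.toLin'_mul, LinearMap.comp_apply, Matrix.toLin'_toMatrix', refl_refl hμ,
      Matrix.toLin'_one, LinearMap.id_apply]
  · have : LinearMap.ker (Matrix.toLin' (LinearMap.toMatrix' (refl μ p)) - LinearMap.id)
        = LinearMap.ker μ := by
      ext v
      simp [Matrix.toLin'_toMatrix', refl_apply, hp]
    rw [this, finrank_ker]
    intro h
    rw [h, LinearMap.zero_apply] at hμ
    exact two_ne_zero hμ.symm
  · rw [hmv, refl_apply, hμ, two_smul]; abel
  · rw [aeval_matrix_eq_iff]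
    intro v
    rw [hmv, hf]; simp

omit [CharZero k] [IsAlgClosed k] in
lemma Split.refl_eval {p : Fin 4 → k} {l m : (Fin 4 → k) →ₗ[k] k} (hs : Split f p l m)
    (v : Fin 4 → k) : eval (refl m p v) f = eval v f := by
  rw [refl_apply, sub_eq_add_neg, ← neg_smul, hs.2.2.2]; ring

end Refl

omit [IsAlgClosed k] in
lemma Eck.eval_smul {e : Fin 4 → k} (hE : Eck f e) (a : k) : eval (a • e) f = 0 := by
  obtain ⟨U, -, h⟩ := hE
  exact (h 0).2.2 _ ((U 0).smul_mem a (h 0).2.1)

omit [CharZero k] [IsAlgClosed k] in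
/-- Two expansions compared. -/
lemma double_expand {e e' : Fin 4 → k} {l m l' m' : (Fin 4 → k) →ₗ[k] k} (h : Split f e l m)
    (h' : Split f e' l' m') (v : Fin 4 → k) (t s : k) :
    l' v * (s * m' v + s ^ 2) + (l v + s * l e') * (t * (m v + s * m e') + t ^ 2) =
      l v * (t * m v + t ^ 2) + (l' v + t * l' e) * (s * (m' v + t * m' e) + s ^ 2) := by
  have e1 : eval (v + s • e' + t • e) f = eval v f + l' v * (s * m' v + s ^ 2)
      + (l v + s * l e') * (t * (m v + s * m e') + t ^ 2) := by
    rw [h.2.2.2, h'.2.2.2, map_add, map_add, map_smul, map_smul, smul_eq_mul, smul_eq_mul]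
  have e2 : eval (v + t • e + s • e') f = eval v f + l v * (t * m v + t ^ 2)
      + (l' v + t * l' e) * (s * (m' v + t * m' e) + s ^ 2) := by
    rw [h'.2.2.2, h.2.2.2, map_add, map_add, map_smul, map_smul, smul_eq_mul, smul_eq_mul]
  rw [add_right_comm] at e2
  linear_combination e2 - e1

/-- Two Eckardt points whose line is on the surface fix each other. -/
lemma commute_of_line (hc : Rep c f) (hsm : Sm f) {e e' : Fin 4 → k} (he : e ≠ 0)
    (he' : e' ∉ Submodule.span k {e}) (hE : Eck f e)
    (hL : ∀ u ∈ Submodule.span k {e, e'}, eval u f = 0) {m m' : (Fin 4 → k) →ₗ[k] k}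
    (h : Split f e (grad c e) m) (h' : Split f e' (grad c e') m') : m e' = 0 ∧ m' e = 0 := by
  have hmem : ∀ a b : k, a • e + b • e' ∈ Submodule.span k {e, e'} := fun a b =>
    Submodule.mem_span_pair.2 ⟨a, b, rfl⟩
  have key : ∀ x y : Fin 4 → k, x ∈ Submodule.span k {e, e'} → y ∈ Submodule.span k {e, e'} →
      quad c x y = 0 := by
    intro x y hx hy
    refine (quad_of_expand hc (hL x hx) (a := 0) (b := 0) fun t => ?_).1
    rw [hL _ (add_mem hy (Submodule.smul_mem _ t hx)), hL y hy]; ring
  have hein : e ∈ Submodule.span k {e, e'} := Submodule.subset_span (by simp)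
  have he'in : e' ∈ Submodule.span k {e, e'} := Submodule.subset_span (by simp)
  have hle' : grad c e e' = 0 := key e' e he'in hein
  have hl'e : grad c e' e = 0 := key e e' hein he'in
  have hrel : ∀ v, m e' * grad c e v = m' e * grad c e' v := by
    intro v
    have := double_expand h h' v 1 1
    rw [hle', hl'e] at this
    linear_combination this
  by_contra hcon
  obtain ⟨a, b, ha, hb⟩ : ∃ a b : k, a = m e' ∧ b = m' e := ⟨_, _, rfl, rfl⟩
  have hb0 : b ≠ 0 := by
    intro hb0
    apply hcon
    refine ⟨?_, hb ▸ hb0⟩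
    by_contra ha0
    obtain ⟨w, hw⟩ := exists_eq_one h.2.1
    have := hrel w
    rw [hw, ← hb, hb0, zero_mul, mul_one] at this
    exact ha0 this
  have hker : ∀ v, grad c e v = 0 → grad c e' v = 0 := by
    intro v hv
    have := hrel v
    rw [hv, mul_zero, ← hb] at this
    exact (mul_eq_zero.1 this.symm).resolve_left hb0
  -- `f` restricted to the common tangent plane is invariant under both translations
  have hinv : ∀ v, grad c e v = 0 → ∀ x y : k, eval (v + x • e + y • e') f = eval v f := by
    intro v hv x y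
    have h1 : grad c e' (v + x • e) = 0 := by
      rw [map_add, map_smul, hker v hv, hl'e, smul_zero, add_zero]
    rw [h'.2.2.2, h1, h.2.2.2, hv]; ring
  obtain ⟨U, hU, hU'⟩ := hE
  obtain ⟨i, hi⟩ : ∃ i, U i ≠ Submodule.span k {e, e'} := by
    by_contra hh
    simp only [not_exists, not_not] at hh
    exact absurd (hU (show U 0 = U 1 by rw [hh 0, hh 1])) (by decide)
  obtain ⟨u, hu, hu', hUe⟩ := exists_in_line (U i) (hU' i).1 he (hU' i).2.1
  have hfu := (hU' i).2.2 u hu
  have hlu : grad c e u = 0 :=
    (quad_of_expand hc ((hU' i).2.2 e (hU' i).2.1) (a := 0) (b := 0) fun t => by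
      rw [(hU' i).2.2 _ ((U i).add_mem hu ((U i).smul_mem t (hU' i).2.1)), hfu]; ring).2
  have huL : u ∉ Submodule.span k {e, e'} := by
    intro huL
    apply hi
    refine Submodule.eq_of_le_of_finrank_le ?_ ?_
    · rw [hUe, Submodule.span_le]
      rintro x (rfl | rfl)
      · exact hein
      · exact huL
    · rw [(hU' i).1]
      classical
      have := finrank_span_finset_le_card (R := k) ({e, e'} : Finset (Fin 4 → k))
      rw [Finset.coe_pair] at this
      exact this.trans Finset.card_le_two
  have hli : LinearIndependent k ![u, e, e'] := by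
    rw [show (![u, e, e'] : Fin 3 → Fin 4 → k) = Fin.cons u ![e, e'] from rfl,
      linearIndependent_finCons]
    refine ⟨?_, ?_⟩
    · rw [LinearIndependent.pair_iff' he]
      intro x hx
      exact he' (hx ▸ Submodule.smul_mem _ x (Submodule.mem_span_singleton_self e))
    · rw [Matrix.range_cons_cons_empty]; exact huL
  have hker' : LinearMap.ker (grad c e) = Submodule.span k (Set.range ![u, e, e']) := by
    refine (Submodule.eq_of_le_of_finrank_le ?_ ?_).symm
    · rw [Submodule.span_le]
      rintro x ⟨j, rfl⟩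
      fin_cases j
      · exact hlu
      · exact h.1
      · exact hle'
    · rw [finrank_span_eq_card hli, Fintype.card_fin, finrank_ker h.2.1]
  refine no_plane hc hsm he ((hU' i).2.2 e (hU' i).2.1) fun v hv => ?_
  have : v ∈ LinearMap.ker (grad c e) := hv
  rw [hker', Submodule.mem_span_range_iff_exists_fun] at this
  obtain ⟨g, rfl⟩ := this
  rw [Fin.sum_univ_three]
  show eval (g 0 • u + g 1 • e + g 2 • e') f = 0
  rw [hinv _ (by rw [map_smul, hlu, smul_zero]), hc.eval_smul, hfu, mul_zero]

omit [CharZero k] [IsAlgClosed k] in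
/-- Two Eckardt points whose line is not on the surface. -/
lemma ab_eq_one {e e' : Fin 4 → k} {l m l' m' : (Fin 4 → k) →ₗ[k] k} [NeZero (2 : k)]
    (h : Split f e l m) (h' : Split f e' l' m') (hl : l e' ≠ 0) : m e' * m' e = 1 := by
  have d := double_expand h h' 0
  simp only [map_zero] at d
  have h11 := d 1 1
  have h12 := d 1 2
  have h21 := d 2 1
  have h1 : l e' * m e' = l' e := mul_left_cancel₀ (two_ne_zero (α := k))
    (by linear_combination h12 - 2 * h11)
  have h2 : l e' = l' e * m' e := mul_left_cancel₀ (two_ne_zero (α := k))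
    (by linear_combination h21 - 2 * h11)
  exact mul_left_cancel₀ hl (by linear_combination m' e * h1 - h2)

end Groth.Agent.CubicLead
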