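import Groth.Agent.CubicLead.Basic
import Groth.Agent.DimTheory.Algebra
import Groth.Prelude.Def_W4c5monodromycubicsHesse
import Mathlib.RingTheory.Nullstellensatz
import Mathlib.RingTheory.Ideal.KrullsHeightTheorem
import Mathlib.LinearAlgebra.Matrix.Determinant.Basic
import Mathlib.LinearAlgebra.Matrix.ToLinearEquiv
import Mathlib.Algebra.CharP.Lemmas

/-! Smooth plane cubics: existence of flexes and of Hesse forms. -/

set_option autoImplicit false

universe u

namespace Groth.Agent.CubicLead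

open MvPolynomial

variable {k : Type u} [Field k]

lemma exists_common_zero [IsAlgClosed k] (f g : MvPolynomial (Fin 3) k)
    (hf : eval 0 f = 0) (hg : eval 0 g = 0) : ∃ v, v ≠ 0 ∧ eval v f = 0 ∧ eval v g = 0 := by
  by_contra hcon
  simp only [not_exists, not_and] at hcon
  have hz : zeroLocus k (Ideal.span {f, g}) = {0} := by
    ext v
    rw [zeroLocus_span, Set.mem_setOf_eq, Set.mem_singleton_iff]
    simp only [Set.mem_insert_iff, Set.mem_singleton_iff, forall_eq_or_imp, forall_eq,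
      aeval_eq_eval]
    refine ⟨fun h => by_contra fun hv => hcon v hv h.1 h.2, ?_⟩
    rintro rfl
    exact ⟨hf, hg⟩
  have hrad := vanishingIdeal_zeroLocus_eq_radical (K := k) (Ideal.span {f, g})
  rw [hz] at hrad
  have hm : (vanishingIdeal k ({0} : Set (Fin 3 → k))).IsMaximal := inferInstance
  set m := vanishingIdeal k ({0} : Set (Fin 3 → k)) with hmdef
  have hmin : m ∈ (Ideal.span {f, g}).minimalPrimes := by
    refine ⟨⟨hm.isPrime, by rw [hrad]; exact Ideal.le_radical⟩, fun q hq _ => ?_⟩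
    rw [hrad]
    exact hq.1.radical_le_iff.2 hq.2
  have h1 := Ideal.height_le_card_of_mem_minimalPrimes_span (Set.toFinite _) hmin
  rw [Groth.Agent.DimTheory.height_maximal_mvPolynomial k 3 m] at h1
  have h2 : ({f, g} : Set (MvPolynomial (Fin 3) k)).ncard ≤ 2 :=
    (Set.ncard_insert_le f {g}).trans (by rw [Set.ncard_singleton])
  have h3 : 3 ≤ ({f, g} : Set (MvPolynomial (Fin 3) k)).ncard := by exact_mod_cast h1
  omega

lemma sym_comm23 {n : ℕ} (c : Fin n → Fin n → Fin n → k) (u v w : Fin n → k) :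
    sym c u v w = sym c u w v := by simp only [sym]; ring

/-- The Hessian matrix as a matrix of linear forms. -/
noncomputable def hessMat (c : Fin 3 → Fin 3 → Fin 3 → k) :
    Matrix (Fin 3) (Fin 3) (MvPolynomial (Fin 3) k) := fun i j =>
  ∑ l, C (sym c (Pi.single l 1) (Pi.single i 1) (Pi.single j 1)) * X l

lemma sym_eq_sum (c : Fin 3 → Fin 3 → Fin 3 → k) (v a b : Fin 3 → k) :
    sym c v a b = ∑ l, v l * sym c (Pi.single l 1) a b := by
  conv_lhs => rw [pi_eq_sum_univ' v]
  have : ∀ (s : Finset (Fin 3)) (F : Fin 3 → Fin 3 → k),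
      sym c (∑ l ∈ s, F l) a b = ∑ l ∈ s, sym c (F l) a b := by
    intro s F
    induction s using Finset.induction_on with
    | empty => simp [sym, tri]
    | insert x s hx ih =>
      rw [Finset.sum_insert hx, Finset.sum_insert hx, ← ih]
      simp only [sym, tri_add₁, tri_add₂, tri_add₃]; ring
  rw [this]
  refine Finset.sum_congr rfl fun l _ => ?_
  simp only [sym, tri_smul₁, tri_smul₂, tri_smul₃]; ring

lemma eval_hessMat (c : Fin 3 → Fin 3 → Fin 3 → k) (v : Fin 3 → k) (i j : Fin 3) :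
    eval v (hessMat c i j) = sym c v (Pi.single i 1) (Pi.single j 1) := by
  rw [sym_eq_sum c v]
  simp [hessMat, mul_comm]

variable [CharZero k] [IsAlgClosed k] {f : MvPolynomial (Fin 3) k}
  {c : Fin 3 → Fin 3 → Fin 3 → k}

/-- A smooth plane cubic has a flex, with the kernel of the Hessian as tangent direction. -/
lemma exists_flex (hc : Rep c f)
    (hsm : ∀ v : Fin 3 → k, v ≠ 0 → eval v f = 0 → ∃ i : Fin 3, eval v (pderiv i f) ≠ 0) :
    ∃ v n : Fin 3 → k, v ≠ 0 ∧ eval v f = 0 ∧ n ∉ Submodule.span k {v} ∧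
      ∀ x, sym c v n x = 0 := by
  obtain ⟨v, hv, hfv, hdet⟩ := exists_common_zero f (hessMat c).det
    (by rw [hc.eval_eq]; simp [tri])
    (by
      rw [RingHom.map_det, RingHom.mapMatrix_apply,
        show (hessMat c).map (eval (0 : Fin 3 → k)) = 0 by ext i j; simp [hessMat],
        Matrix.det_zero])
  rw [RingHom.map_det, RingHom.mapMatrix_apply] at hdet
  obtain ⟨n, hn, hMn⟩ := Matrix.exists_mulVec_eq_zero_iff.2 hdet
  have hker : symL c v n = 0 := by
    apply LinearMap.pi_ext'
    intro i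
    apply LinearMap.ext_ring
    have := congrFun hMn i
    simp only [Matrix.mulVec, dotProduct, Matrix.map_apply, eval_hessMat, Pi.zero_apply] at this
    rw [LinearMap.comp_apply, LinearMap.zero_comp, LinearMap.zero_apply, symL_apply,
      sym_comm23]
    calc sym c v ((LinearMap.single k (fun _ => k) i) 1) n
        = symL c v (Pi.single i 1) n := rfl
      _ = symL c v (Pi.single i 1) (∑ j, n j • Pi.single j 1) := by
          rw [← pi_eq_sum_univ' n]
      _ = 0 := by
          rw [map_sum]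
          simp only [map_smul, symL_apply, smul_eq_mul]
          simpa [mul_comm] using this
  refine ⟨v, n, hv, hfv, fun hmem => ?_, fun x => LinearMap.congr_fun hker x⟩
  obtain ⟨r, rfl⟩ := Submodule.mem_span_singleton.1 hmem
  have hr : r ≠ 0 := fun h => hn (by rw [h, zero_smul])
  refine hc.grad_ne_zero hsm hv hfv (LinearMap.ext fun x => ?_)
  have h1 : sym c v (r • v) x = 0 := LinearMap.congr_fun hker x
  rw [show sym c v (r • v) x = 2 * r * quad c x v by
    simp only [sym, quad, tri_smul₁, tri_smul₂, tri_smul₃]; ring] at h1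
  exact (mul_eq_zero.1 h1).resolve_left (mul_ne_zero two_ne_zero hr)

omit [IsAlgClosed k] in
/-- A point near which `f` vanishes to second order is singular. -/
lemma sing_false (hc : Rep c f)
    (hsm : ∀ v : Fin 3 → k, v ≠ 0 → eval v f = 0 → ∃ i : Fin 3, eval v (pderiv i f) ≠ 0)
    {x : Fin 3 → k} (hx : x ≠ 0)
    (h : ∀ y, ∃ b : k, ∀ t : k, eval (x + t • y) f = t ^ 2 * b + t ^ 3 * eval y f) : False := by
  have hfx : eval x f = 0 := by
    obtain ⟨b, hb⟩ := h 0
    simpa using hb 0
  refine hc.grad_ne_zero hsm hx hfx (LinearMap.ext fun y => ?_)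
  obtain ⟨b, hb⟩ := h y
  have h1 := hc.expand x y 1
  have h2 := hc.expand x y (-1)
  rw [hb, hfx] at h1 h2
  show quad c y x = 0
  linear_combination -(h1 - h2) / 2

omit [CharZero k] in
lemma exists_ne_zero_root (P : Polynomial k) (hP : 0 < P.natDegree) (h0 : P.coeff 0 ≠ 0) :
    ∃ x, x ≠ 0 ∧ P.eval x = 0 := by
  obtain ⟨x, hx⟩ := IsAlgClosed.exists_root P
    (Polynomial.natDegree_pos_iff_degree_pos.1 hP).ne'
  refine ⟨x, fun h => h0 ?_, hx⟩
  rw [h] at hx
  simpa [Polynomial.coeff_zero_eq_eval_zero] using hx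

omit [IsAlgClosed k] in
/-- Smoothness of the Hesse cubic in terms of expansions: the two possible singular points. -/
lemma hesse_expand (s : k) (x y : Fin 3 → k) (t : k) :
    eval (x + t • y) (HesseCubic.form s) = eval x (HesseCubic.form s)
      + t * (3 * ((x 0 ^ 2 - s * x 1 * x 2) * y 0 + (x 1 ^ 2 - s * x 0 * x 2) * y 1
          + (x 2 ^ 2 - s * x 0 * x 1) * y 2))
      + t ^ 2 * (3 * (x 0 * y 0 ^ 2 + x 1 * y 1 ^ 2 + x 2 * y 2 ^ 2
          - s * (x 0 * y 1 * y 2 + x 1 * y 0 * y 2 + x 2 * y 0 * y 1)))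
      + t ^ 3 * eval y (HesseCubic.form s) := by
  simp [HesseCubic.form]
  ring

omit [CharZero k] [IsAlgClosed k] in
lemma eval_form (s : k) (x : Fin 3 → k) : eval x (HesseCubic.form s) =
    x 0 ^ 3 + x 1 ^ 3 + x 2 ^ 3 - 3 * s * (x 0 * x 1 * x 2) := by
  simp [HesseCubic.form]

/-- A smooth plane cubic is projectively a Hesse cubic. -/
theorem exists_hesse (hc : Rep c f)
    (hsm : ∀ v : Fin 3 → k, v ≠ 0 → eval v f = 0 → ∃ i : Fin 3, eval v (pderiv i f) ≠ 0) :
    ∃ (T : (Fin 3 → k) →ₗ[k] (Fin 3 → k)) (s K : k), Function.Injective T ∧ s ^ 3 ≠ 1 ∧ K ≠ 0 ∧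
      ∀ x, eval (T x) f = K * eval x (HesseCubic.form s) := by
  obtain ⟨v, n, hv, hfv, hn, hker⟩ := exists_flex hc hsm
  obtain ⟨u₀, hu₀⟩ : ∃ u, grad c v u = 1 :=
    LinearMap.surjective (hc.grad_ne_zero hsm hv hfv) 1
  have hgv : grad c v v = 0 := by rw [grad_apply, hc.quad_self, hfv, mul_zero]
  have hgn : grad c v n = 0 := by
    have := hker v
    rw [show sym c v n v = 2 * quad c n v by simp only [sym, quad]; ring] at this
    exact (mul_eq_zero.1 this).resolve_left two_ne_zero
  have hqn : quad c v n = 0 := by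
    have := hker n
    rw [show sym c v n n = 2 * quad c v n by simp only [sym, quad]; ring] at this
    exact (mul_eq_zero.1 this).resolve_left two_ne_zero
  -- normalise `u`
  set u₁ := u₀ - (quad c v u₀ / 2) • v with hu₁def
  have hu₁ : grad c v u₁ = 1 := by rw [map_sub, map_smul, hgv, smul_zero, sub_zero, hu₀]
  have hqu₁ : quad c v u₁ = 0 := by
    have hu' : quad c u₀ v = 1 := hu₀
    rw [hu₁def, sub_eq_add_neg, ← neg_smul, quad_add_right, quad_smul_right, hc.quad_self, hfv,
      show sym c v u₀ ((-(quad c v u₀ / 2)) • v) = 2 * (-(quad c v u₀ / 2)) * quad c u₀ v by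
        simp only [sym, quad, tri_smul₁, tri_smul₂, tri_smul₃]; ring, hu']
    ring
  -- the general formula
  have hF : ∀ (u : Fin 3 → k), grad c v u = 1 → quad c v u = 0 → ∀ a b d : k,
      eval (a • n + b • u + d • v) f = a ^ 3 * eval n f + a ^ 2 * b * quad c u n
        + a * b ^ 2 * quad c n u + b ^ 3 * eval u f + b * d ^ 2 := by
    intro u hu hqu a b d
    have hg : quad c (a • n + b • u) v = b := by
      show grad c v (a • n + b • u) = b
      rw [map_add, map_smul, map_smul, hgn, hu]; simp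
    have hq : quad c v (a • n + b • u) = 0 := by
      rw [quad_add_right, quad_smul_right, quad_smul_right, hqn, hqu,
        show sym c v (a • n) (b • u) = a * b * sym c v n u by
          simp only [sym, tri_smul₁, tri_smul₂, tri_smul₃]; ring, hker u]
      ring
    rw [hc.expand, hg, hq, hfv, hc.expand, hc.eval_smul, quad_smul_right,
      show quad c (a • n) u = a * quad c n u by
        simp only [quad, tri_smul₁, tri_smul₂, tri_smul₃]; ring]
    ring
  have hli : ∀ u : Fin 3 → k, grad c v u = 1 → ∀ a b d : k,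
      a • n + b • u + d • v = 0 → a = 0 ∧ b = 0 ∧ d = 0 := by
    intro u hu a b d h
    have hb : b = 0 := by
      have := congrArg (grad c v) h
      rw [map_add, map_add, map_smul, map_smul, map_smul, hgn, hgv, hu, map_zero] at this
      simpa using this
    rw [hb, zero_smul, add_zero] at h
    have ha : a = 0 := by
      by_contra ha
      exact hn (Submodule.mem_span_singleton.2 ⟨-(d / a), by
        rw [neg_smul, div_eq_inv_mul, mul_smul, ← smul_neg, ← eq_neg_of_add_eq_zero_left h,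
          inv_smul_smul₀ ha]⟩)
    rw [ha, zero_smul, zero_add] at h
    exact ⟨ha, hb, (smul_eq_zero.1 h).resolve_right hv⟩
  have hsurj : ∀ u : Fin 3 → k, grad c v u = 1 →
      ∀ y, ∃ a b d : k, y = a • n + b • u + d • v := by
    intro u hu y
    have hind : LinearIndependent k ![n, u, v] := by
      rw [Fintype.linearIndependent_iff]
      intro g hg
      rw [Fin.sum_univ_three] at hg
      obtain ⟨h1, h2, h3⟩ := hli u hu (g 0) (g 1) (g 2) hg
      intro i; fin_cases i <;> assumption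
    have hy : y ∈ Submodule.span k (Set.range ![n, u, v]) := by
      rw [hind.span_eq_top_of_card_eq_finrank (by simp)]; trivial
    rw [Submodule.mem_span_range_iff_exists_fun] at hy
    obtain ⟨g, hg⟩ := hy
    exact ⟨g 0, g 1, g 2, by rw [← hg, Fin.sum_univ_three]; rfl⟩
  -- `n` is not on the curve
  set α := eval n f with hα
  have hα0 : α ≠ 0 := by
    intro h0
    obtain ⟨r, hr⟩ := IsAlgClosed.exists_eq_mul_self (-quad c u₁ n)
    refine sing_false hc hsm (x := (1 : k) • n + (0 : k) • u₁ + r • v)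
      (fun hx => one_ne_zero (hli u₁ hu₁ 1 0 r hx).1) fun y => ?_
    obtain ⟨a, b, d, rfl⟩ := hsurj u₁ hu₁ y
    refine ⟨2 * a * b * quad c u₁ n + b ^ 2 * quad c n u₁ + 2 * b * d * r, fun t => ?_⟩
    rw [show (1 : k) • n + (0 : k) • u₁ + r • v + t • (a • n + b • u₁ + d • v)
        = (1 + t * a) • n + (t * b) • u₁ + (r + t * d) • v by module, hF u₁ hu₁ hqu₁,
      hF u₁ hu₁ hqu₁, h0]
    linear_combination -t * b * hr
  -- complete the cube
  set u := u₁ - (quad c u₁ n / (3 * α)) • n with hudef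
  have hu : grad c v u = 1 := by rw [map_sub, map_smul, hgn, smul_zero, sub_zero, hu₁]
  have hqu : quad c v u = 0 := by
    rw [hudef, sub_eq_add_neg, ← neg_smul, quad_add_right, quad_smul_right, hqu₁, hqn,
      show sym c v u₁ ((-(quad c u₁ n / (3 * α))) • n)
          = (-(quad c u₁ n / (3 * α))) * sym c v n u₁ by
        simp only [sym, tri_smul₁, tri_smul₂, tri_smul₃]; ring, hker u₁]
    ring
  have hun : quad c u n = 0 := by
    show grad c n u = 0
    rw [hudef, map_sub, map_smul, grad_apply, grad_apply, hc.quad_self, ← hα, smul_eq_mul]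
    field_simp
    ring
  set γ := quad c n u with hγ
  set δ := eval u f with hδ
  have hG : ∀ a b d : k, eval (a • n + b • u + d • v) f =
      α * a ^ 3 + γ * a * b ^ 2 + δ * b ^ 3 + b * d ^ 2 := by
    intro a b d; rw [hF u hu hqu, hun]; ring
  have hγδ : γ ≠ 0 ∨ δ ≠ 0 := by
    by_contra hh
    rw [not_or, not_not, not_not] at hh
    refine sing_false hc hsm (x := (0 : k) • n + (1 : k) • u + (0 : k) • v)
      (fun hx => one_ne_zero (hli u hu 0 1 0 hx).2.1) fun y => ?_
    obtain ⟨a, b, d, rfl⟩ := hsurj u hu y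
    refine ⟨d ^ 2, fun t => ?_⟩
    rw [show (0 : k) • n + (1 : k) • u + (0 : k) • v + t • (a • n + b • u + d • v)
        = (t * a) • n + (1 + t * b) • u + (t * d) • v by module, hG, hG, hh.1, hh.2]
    ring
  -- a second flex
  obtain ⟨l, hl0, hl⟩ : ∃ l : k, l ≠ 0 ∧
      -l ^ 8 - 18 * α * γ * l ^ 4 + 108 * α ^ 2 * δ * l ^ 2 + 27 * α ^ 2 * γ ^ 2 = 0 := by
    by_cases hγ0 : γ = 0
    · have hδ0 := hγδ.resolve_left (not_not.2 hγ0)
      obtain ⟨l, hl⟩ := IsAlgClosed.exists_pow_nat_eq (108 * α ^ 2 * δ) (n := 6) (by norm_num)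
      refine ⟨l, fun h => ?_, by rw [hγ0]; linear_combination (-l ^ 2) * hl⟩
      rw [h, zero_pow (by norm_num)] at hl
      exact mul_ne_zero (mul_ne_zero (by norm_num) (pow_ne_zero 2 hα0)) hδ0 hl.symm
    · let P : Polynomial k := Polynomial.C (-1) * Polynomial.X ^ 8
        + Polynomial.C (-18 * α * γ) * Polynomial.X ^ 4
        + Polynomial.C (108 * α ^ 2 * δ) * Polynomial.X ^ 2 + Polynomial.C (27 * α ^ 2 * γ ^ 2)
      have hP : P.natDegree = 8 := by
        simp only [P]
        compute_degree!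
      obtain ⟨l, hl0, hl⟩ := exists_ne_zero_root P (by omega) (by
        simp only [P, Polynomial.coeff_add, Polynomial.coeff_C_mul_X_pow, Polynomial.coeff_C_zero]
        simp [hα0, hγ0])
      refine ⟨l, hl0, ?_⟩
      simp only [P, Polynomial.eval_add, Polynomial.eval_mul, Polynomial.eval_C,
        Polynomial.eval_pow, Polynomial.eval_X] at hl
      linear_combination hl
  set x₀ := -l ^ 2 / (3 * α) with hx₀
  set μ := (3 * α * x₀ ^ 2 - γ) / (2 * l) with hμ
  have e1 : l ^ 2 = -3 * α * x₀ := by rw [hx₀]; field_simp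
  have e2 : γ = 3 * α * x₀ ^ 2 - 2 * l * μ := by rw [hμ]; field_simp; ring
  have e3 : δ = -α * x₀ ^ 3 - μ ^ 2 := by
    rw [hμ, hx₀]; field_simp
    linear_combination hl
  have hG2 : ∀ a b d : k, eval (a • n + b • u + d • v) f =
      α * (a - x₀ * b) ^ 3 + b * (d ^ 2 - (l * a + μ * b) ^ 2) := by
    intro a b d
    rw [hG]
    linear_combination (a * b ^ 2) * e2 + b ^ 3 * e3 + a ^ 2 * b * e1
  set C' := -(μ / l + x₀) with hC'
  have hC0 : C' ≠ 0 := by
    intro h0
    have hx : x₀ = -μ / l := by linear_combination (exp := 1) -h0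
    refine sing_false hc hsm (x := x₀ • n + (1 : k) • u + (0 : k) • v)
      (fun h => one_ne_zero (hli u hu x₀ 1 0 h).2.1) fun y => ?_
    obtain ⟨a, b, d, rfl⟩ := hsurj u hu y
    refine ⟨d ^ 2 - (l * a + μ * b) ^ 2, fun t => ?_⟩
    have hl' : l * x₀ + μ = 0 := by rw [hx]; field_simp; ring
    rw [show x₀ • n + (1 : k) • u + (0 : k) • v + t • (a • n + b • u + d • v)
        = (x₀ + t * a) • n + (1 + t * b) • u + (t * d) • v by module, hG2, hG2]
    linear_combination (-(1 + t * b) * (l * x₀ + μ + 2 * t * (l * a + μ * b))) * hl'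
  set K := -4 * l ^ 2 / C' with hK
  have hK0 : K ≠ 0 := div_ne_zero (mul_ne_zero (by norm_num) (pow_ne_zero 2 hl0)) hC0
  -- triangle coordinates
  let Φ : k → k → k → (Fin 3 → k) := fun X' Y' Z' =>
    (X' + Y' - μ / (l * C') * Z') • n + (Z' / C') • u + (l * (Y' - X')) • v
  have hΦ : ∀ X' Y' Z', eval (Φ X' Y' Z') f = α * (X' + Y' + Z') ^ 3 + K * (X' * Y' * Z') := by
    intro X' Y' Z'
    simp only [Φ, hG2]
    have h1 : X' + Y' - μ / (l * C') * Z' - x₀ * (Z' / C') = X' + Y' + Z' := by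
      field_simp
      rw [hC']; field_simp; ring
    have h2 : l * (X' + Y' - μ / (l * C') * Z') + μ * (Z' / C') = l * (X' + Y') := by
      field_simp
      ring
    rw [h1, h2, hK]
    field_simp
    ring
  clear_value K
  have hΦinj : ∀ X' Y' Z', Φ X' Y' Z' = 0 → X' = 0 ∧ Y' = 0 ∧ Z' = 0 := by
    intro X' Y' Z' h
    obtain ⟨h1, h2, h3⟩ := hli u hu _ _ _ h
    have hZ : Z' = 0 := (div_eq_zero_iff.1 h2).resolve_right hC0
    rw [hZ, mul_zero, sub_zero] at h1
    have h3' : Y' - X' = 0 := (mul_eq_zero.1 h3).resolve_left hl0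
    exact ⟨by linear_combination (h1 - h3') / 2, by linear_combination (h1 + h3') / 2, hZ⟩
  have hK27 : 27 * α + K ≠ 0 := by
    intro h0
    refine sing_false hc hsm (x := Φ 1 1 1) (fun h => one_ne_zero (hΦinj _ _ _ h).1) fun y => ?_
    obtain ⟨a, b, d, rfl⟩ := hsurj u hu y
    obtain ⟨X', Y', Z', hy⟩ : ∃ X' Y' Z', a • n + b • u + d • v = Φ X' Y' Z' := by
      refine ⟨(a + μ / l * b - d / l) / 2, (a + μ / l * b + d / l) / 2, b * C', ?_⟩
      simp only [Φ]
      congr 2 <;> congr 1 <;> field_simp <;> ring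
    refine ⟨9 * α * (X' + Y' + Z') ^ 2 + K * (X' * Y' + X' * Z' + Y' * Z'), fun t => ?_⟩
    rw [hy, show Φ 1 1 1 + t • Φ X' Y' Z' = Φ (1 + t * X') (1 + t * Y') (1 + t * Z') by
      simp only [Φ]; module, hΦ, hΦ]
    linear_combination (1 + t * (X' + Y' + Z')) * h0
  obtain ⟨r, hr⟩ := IsAlgClosed.exists_eq_mul_self (-3 : k)
  set w : k := (-1 + r) / 2 with hw
  have hw' : w ^ 2 + w + 1 = 0 := by rw [hw]; linear_combination -hr / 4
  obtain ⟨s, hs⟩ := IsAlgClosed.exists_pow_nat_eq (K / (27 * α + K)) (n := 3) (by norm_num)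
  have hs0 : s ≠ 0 := fun h => div_ne_zero hK0 hK27 (by rw [← hs, h]; ring)
  have hsK : (27 * α + K) * s ^ 3 = K := by rw [hs]; field_simp
  let T : (Fin 3 → k) →ₗ[k] (Fin 3 → k) :=
    { toFun := fun x => Φ (s * x 0 + x 1 + x 2) (s * x 0 + w * x 1 + w ^ 2 * x 2)
        (s * x 0 + w ^ 2 * x 1 + w * x 2)
      map_add' := fun x y => by simp only [Φ, Pi.add_apply]; module
      map_smul' := fun a x => by
        simp only [Φ, Pi.smul_apply, smul_eq_mul, RingHom.id_apply]; module }
  have hTinj : Function.Injective T := by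
    rw [injective_iff_map_eq_zero]
    intro x hx
    obtain ⟨h1, h2, h3⟩ := hΦinj _ _ _ hx
    have hx0 : x 0 = 0 := by
      have : 3 * s * x 0 = 0 := by linear_combination h1 + h2 + h3 - (x 1 + x 2) * hw'
      exact (mul_eq_zero.1 this).resolve_left (mul_ne_zero three_ne_zero hs0)
    rw [hx0, mul_zero, zero_add] at h1 h2
    have hne : w ^ 2 - w ≠ 0 := by
      intro hh
      have h4 : 2 * w + 1 = 0 := by linear_combination hw' - hh
      exact three_ne_zero (α := k) (by linear_combination 4 * hw' - (2 * w + 1) * h4)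
    have hx2 : x 2 = 0 := by
      have : (w ^ 2 - w) * x 2 = 0 := by linear_combination h2 - w * h1
      exact (mul_eq_zero.1 this).resolve_left hne
    funext i
    fin_cases i
    · exact hx0
    · show x 1 = 0
      linear_combination h1 - hx2
    · exact hx2
  have hTf : ∀ x, eval (T x) f = K * eval x (HesseCubic.form s) := by
    intro x
    show eval (Φ _ _ _) f = _
    rw [hΦ, eval_form]
    have hsum : s * x 0 + x 1 + x 2 + (s * x 0 + w * x 1 + w ^ 2 * x 2)
        + (s * x 0 + w ^ 2 * x 1 + w * x 2) = 3 * (s * x 0) := by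
      linear_combination (x 1 + x 2) * hw'
    rw [hsum]
    linear_combination x 0 ^ 3 * hsK
      + K * (s ^ 2 * x 0 ^ 2 * (x 1 + x 2) + s * x 0 * (w * x 1 ^ 2 + w * x 2 ^ 2)
        + (w - 1) * (x 1 ^ 3 + x 2 ^ 3)
        + (w ^ 2 - w + 3) * s * x 0 * x 1 * x 2
        + w * (x 1 ^ 2 * x 2 + x 1 * x 2 ^ 2) * w) * hw'
  refine ⟨T, s, K, hTinj, fun hs1 => ?_, hK0, hTf⟩
  have hTsurj : Function.Surjective T := LinearMap.injective_iff_surjective.1 hTinj
  refine sing_false hc hsm (x := T ![1, 1, s⁻¹])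
    (fun h => by
      have h0 : (![1, 1, s⁻¹] : Fin 3 → k) = 0 := hTinj (by rw [h, map_zero])
      exact one_ne_zero (congrFun h0 0)) fun y => ?_
  obtain ⟨y, rfl⟩ := hTsurj y
  refine ⟨K * (3 * (y 0 ^ 2 + y 1 ^ 2 + s⁻¹ * y 2 ^ 2
      - s * (y 1 * y 2 + y 0 * y 2 + s⁻¹ * y 0 * y 1))), fun t => ?_⟩
  rw [← map_smul, ← map_add, hTf, hesse_expand, hTf, eval_form s ![1, 1, s⁻¹]]
  simp only [Matrix.cons_val_zero, Matrix.cons_val_one, Matrix.cons_val]
  field_simp
  linear_combination (-1 - 3 * t * s * y 2) * hs1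

end Groth.Agent.CubicLead
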