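import Groth.Agent.CubicLead.Hesse

/-! Flexes of Hesse cubics. -/

set_option autoImplicit false

universe u

namespace Groth.Agent.CubicLead

open MvPolynomial

variable {k : Type u} [Field k]

/-- A flex. -/
abbrev Flex (f : MvPolynomial (Fin 3) k) (v : Fin 3 → k) : Prop :=
  ∃ w : Fin 3 → k, LinearIndependent k ![v, w] ∧
    ∀ t : k, eval (v + t • w) f = t ^ 3 * eval w f

/-- The nine base points. -/
def IsBase (v : Fin 3 → k) : Prop :=
  ∃ γ c : k, γ ^ 3 = 1 ∧ (v = c • ![0, 1, -γ] ∨ v = c • ![-γ, 0, 1] ∨ v = c • ![1, -γ, 0])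

/-- The symmetric matrix of the polar conic of `v`. -/
def polarMat (s : k) (v : Fin 3 → k) : Matrix (Fin 3) (Fin 3) k :=
  !![v 0, -s * v 2 / 2, -s * v 1 / 2;
     -s * v 2 / 2, v 1, -s * v 0 / 2;
     -s * v 1 / 2, -s * v 0 / 2, v 2]

variable [CharZero k]

lemma det_eq_zero_of_isotropic (M : Matrix (Fin 3) (Fin 3) k) {v w : Fin 3 → k}
    (hli : LinearIndependent k ![v, w]) (h11 : ∑ i, ∑ j, v i * M i j * v j = 0)
    (h12 : ∑ i, ∑ j, v i * M i j * w j = 0) (h21 : ∑ i, ∑ j, w i * M i j * v j = 0)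
    (h22 : ∑ i, ∑ j, w i * M i j * w j = 0) : M.det = 0 := by
  obtain ⟨u, hu⟩ : ∃ u, u ∉ Submodule.span k (Set.range ![v, w]) := by
    by_contra hh
    simp only [not_exists, not_not] at hh
    have h := finrank_span_eq_card hli
    rw [Submodule.eq_top_iff'.2 hh, finrank_top, Module.finrank_fin_fun, Fintype.card_fin] at h
    omega
  have hli3 : LinearIndependent k ![u, v, w] := by
    rw [show (![u, v, w] : Fin 3 → Fin 3 → k) = Fin.cons u ![v, w] from rfl,
      linearIndependent_finCons]
    exact ⟨hli, hu⟩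
  let P : Matrix (Fin 3) (Fin 3) k := Matrix.of ![u, v, w]
  have hP : P.det ≠ 0 := by
    have : IsUnit P := Matrix.linearIndependent_rows_iff_isUnit.1 hli3
    exact ((Matrix.isUnit_iff_isUnit_det P).1 this).ne_zero
  have key : ∀ a b, (P * M * P.transpose) a b = ∑ i, ∑ j, P a i * M i j * P b j := by
    intro a b
    simp only [Matrix.mul_apply, Matrix.transpose_apply, Finset.sum_mul]
    exact Finset.sum_comm
  have hN : (P * M * P.transpose).det = 0 := by
    rw [Matrix.det_fin_three]
    have e11 : (P * M * P.transpose) 1 1 = 0 := by rw [key]; exact h11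
    have e12 : (P * M * P.transpose) 1 2 = 0 := by rw [key]; exact h12
    have e21 : (P * M * P.transpose) 2 1 = 0 := by rw [key]; exact h21
    have e22 : (P * M * P.transpose) 2 2 = 0 := by rw [key]; exact h22
    rw [e11, e12, e21, e22]; ring
  rw [Matrix.det_mul, Matrix.det_mul, Matrix.det_transpose] at hN
  exact (mul_eq_zero.1 ((mul_eq_zero.1 hN).resolve_right hP)).resolve_left hP

lemma det_polarMat (s : k) (v : Fin 3 → k) : (polarMat s v).det =
    (1 - s ^ 3) * (v 0 * v 1 * v 2) - s ^ 2 / 4 * eval v (HesseCubic.form s) := by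
  rw [Matrix.det_fin_three, eval_form]
  simp [polarMat]
  ring

lemma isBase_of_flex {s : k} (hs : s ^ 3 ≠ 1) {v : Fin 3 → k} (hv : v ≠ 0)
    (hCv : eval v (HesseCubic.form s) = 0) (h : Flex (HesseCubic.form s) v) : IsBase v := by
  obtain ⟨w, hli, hw⟩ := h
  have h1 := hw 1
  have h2 := hw (-1)
  rw [hesse_expand, hCv] at h1 h2
  rw [eval_form] at hCv
  have hdet : (polarMat s v).det = 0 := by
    refine det_eq_zero_of_isotropic _ hli ?_ ?_ ?_ ?_
    · simp [Fin.sum_univ_three, polarMat]; linear_combination hCv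
    · simp [Fin.sum_univ_three, polarMat]; linear_combination (h1 - h2) / 6
    · simp [Fin.sum_univ_three, polarMat]; linear_combination (h1 - h2) / 6
    · simp [Fin.sum_univ_three, polarMat]; linear_combination (h1 + h2) / 6
  rw [det_polarMat, eval_form, hCv, mul_zero, sub_zero] at hdet
  have hxyz := (mul_eq_zero.1 hdet).resolve_left (sub_ne_zero.2 (Ne.symm hs))
  rcases mul_eq_zero.1 hxyz with h' | h2'
  · rcases mul_eq_zero.1 h' with h0 | h0
    · have h1' : v 1 ≠ 0 := by
        intro h1'
        rw [h0, h1'] at hCv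
        exact hv (by funext i; fin_cases i
                     · exact h0
                     · exact h1'
                     · show v 2 = 0
                       exact eq_zero_of_pow_eq_zero (n := 3) (by linear_combination hCv))
      refine ⟨-(v 2) / v 1, v 1, ?_, Or.inl ?_⟩
      · rw [h0] at hCv
        field_simp
        linear_combination -hCv
      · funext i; fin_cases i <;> simp [h0] <;> field_simp
    · have h1' : v 2 ≠ 0 := by
        intro h1'
        rw [h0, h1'] at hCv
        exact hv (by funext i; fin_cases i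
                     · show v 0 = 0
                       exact eq_zero_of_pow_eq_zero (n := 3) (by linear_combination hCv)
                     · exact h0
                     · exact h1')
      refine ⟨-(v 0) / v 2, v 2, ?_, Or.inr (Or.inl ?_)⟩
      · rw [h0] at hCv
        field_simp
        linear_combination -hCv
      · funext i; fin_cases i <;> simp [h0] <;> field_simp
  · have h1' : v 0 ≠ 0 := by
      intro h1'
      rw [h2', h1'] at hCv
      exact hv (by funext i; fin_cases i
                   · exact h1'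
                   · show v 1 = 0
                     exact eq_zero_of_pow_eq_zero (n := 3) (by linear_combination hCv)
                   · exact h2')
    refine ⟨-(v 1) / v 0, v 0, ?_, Or.inr (Or.inr ?_)⟩
    · rw [h2'] at hCv
      field_simp
      linear_combination -hCv
    · funext i; fin_cases i <;> simp [h2'] <;> field_simp

omit [CharZero k] in
lemma base_spec {γ c : k} (hγ : γ ^ 3 = 1) (s : k) :
    eval (c • ![0, 1, -γ]) (HesseCubic.form s) = 0 ∧
    eval (c • ![-γ, 0, 1]) (HesseCubic.form s) = 0 ∧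
    eval (c • ![1, -γ, 0]) (HesseCubic.form s) = 0 := by
  refine ⟨?_, ?_, ?_⟩ <;> simp [eval_form] <;> linear_combination -c ^ 3 * hγ

lemma flex_of_isBase {s : k} {v : Fin 3 → k} (hv : v ≠ 0) (h : IsBase v) :
    Flex (HesseCubic.form s) v := by
  obtain ⟨γ, c, hγ, h⟩ := h
  obtain ⟨b1, b2, b3⟩ := base_spec (c := c) hγ s
  have hc : c ≠ 0 := by rintro rfl; rcases h with rfl | rfl | rfl <;> simp at hv
  rcases h with rfl | rfl | rfl
  · refine ⟨![1, -(s * γ), 0], ?_, fun t => ?_⟩
    · rw [LinearIndependent.pair_iff' hv]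
      intro a ha
      simpa using congrFun ha 0
    · rw [hesse_expand, b1]
      simp
      ring
  · refine ⟨![0, 1, -(s * γ)], ?_, fun t => ?_⟩
    · rw [LinearIndependent.pair_iff' hv]
      intro a ha
      simpa using congrFun ha 1
    · rw [hesse_expand, b2]
      simp
      ring
  · refine ⟨![-(s * γ), 0, 1], ?_, fun t => ?_⟩
    · rw [LinearIndependent.pair_iff' hv]
      intro a ha
      simpa using congrFun ha 2
    · rw [hesse_expand, b3]
      simp
      ring

lemma Flex.map {f g : MvPolynomial (Fin 3) k} {K : k} {T : (Fin 3 → k) →ₗ[k] (Fin 3 → k)}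
    (hT : Function.Injective T) (hf : ∀ x, eval (T x) f = K * eval x g) {v : Fin 3 → k}
    (h : Flex g v) : Flex f (T v) := by
  obtain ⟨w, hli, hw⟩ := h
  refine ⟨T w, ?_, fun t => ?_⟩
  · rw [LinearIndependent.pair_iff] at hli ⊢
    intro a b hab
    exact hli a b (hT (by rw [map_add, map_smul, map_smul, map_zero]; exact hab))
  · rw [← map_smul, ← map_add, hf, hw, hf]; ring

/-- A symmetry of the pencil carrying `(0, 1, -1)` to a given base point. -/
lemma exists_symm_base {v : Fin 3 → k} (hv : v ≠ 0) (h : IsBase v) (s : k) :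
    ∃ (S : (Fin 3 → k) ≃ₗ[k] (Fin 3 → k)) (c : k), c ≠ 0 ∧
      (∀ x, eval (S x) (HesseCubic.form s) = eval x (HesseCubic.form s)) ∧
      S ![0, 1, -1] = c⁻¹ • v := by
  obtain ⟨γ, c, hγ, h⟩ := h
  have hc : c ≠ 0 := by rintro rfl; rcases h with rfl | rfl | rfl <;> simp at hv
  have hg : γ * γ ^ 2 = 1 := by linear_combination hγ
  rcases h with rfl | rfl | rfl
  · let S : (Fin 3 → k) →ₗ[k] (Fin 3 → k) :=
      { toFun := fun x => ![γ ^ 2 * x 0, x 1, γ * x 2]
        map_add' := fun x y => by funext i; fin_cases i <;> simp [mul_add]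
        map_smul' := fun a x => by funext i; fin_cases i <;> simp [mul_left_comm] }
    have hS : Function.Injective S := by
      intro x y hxy
      have h0 : γ ^ 2 * x 0 = γ ^ 2 * y 0 := congrFun hxy 0
      have h1 : x 1 = y 1 := congrFun hxy 1
      have h2 : γ * x 2 = γ * y 2 := congrFun hxy 2
      funext i; fin_cases i
      · show x 0 = y 0; linear_combination γ * h0 - (x 0 - y 0) * hg
      · exact h1
      · show x 2 = y 2; linear_combination γ ^ 2 * h2 - (x 2 - y 2) * hg
    refine ⟨LinearEquiv.ofBijective S ⟨hS, LinearMap.injective_iff_surjective.1 hS⟩, c, hc,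
      fun x => ?_, ?_⟩
    · simp [S, eval_form]
      linear_combination ((γ ^ 3 + 1) * x 0 ^ 3 + x 2 ^ 3 - 3 * s * (x 0 * x 1 * x 2)) * hγ
    · rw [inv_smul_smul₀ hc]
      funext i; fin_cases i <;> simp [S]
  · let S : (Fin 3 → k) →ₗ[k] (Fin 3 → k) :=
      { toFun := fun x => ![γ * x 2, γ ^ 2 * x 0, x 1]
        map_add' := fun x y => by funext i; fin_cases i <;> simp [mul_add]
        map_smul' := fun a x => by funext i; fin_cases i <;> simp [mul_left_comm] }
    have hS : Function.Injective S := by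
      intro x y hxy
      have h0 : γ * x 2 = γ * y 2 := congrFun hxy 0
      have h1 : γ ^ 2 * x 0 = γ ^ 2 * y 0 := congrFun hxy 1
      have h2 : x 1 = y 1 := congrFun hxy 2
      funext i; fin_cases i
      · show x 0 = y 0; linear_combination γ * h1 - (x 0 - y 0) * hg
      · exact h2
      · show x 2 = y 2; linear_combination γ ^ 2 * h0 - (x 2 - y 2) * hg
    refine ⟨LinearEquiv.ofBijective S ⟨hS, LinearMap.injective_iff_surjective.1 hS⟩, c, hc,
      fun x => ?_, ?_⟩
    · simp [S, eval_form]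
      linear_combination ((γ ^ 3 + 1) * x 0 ^ 3 + x 2 ^ 3 - 3 * s * (x 0 * x 1 * x 2)) * hγ
    · rw [inv_smul_smul₀ hc]
      funext i; fin_cases i <;> simp [S]
  · let S : (Fin 3 → k) →ₗ[k] (Fin 3 → k) :=
      { toFun := fun x => ![x 1, γ * x 2, γ ^ 2 * x 0]
        map_add' := fun x y => by funext i; fin_cases i <;> simp [mul_add]
        map_smul' := fun a x => by funext i; fin_cases i <;> simp [mul_left_comm] }
    have hS : Function.Injective S := by
      intro x y hxy
      have h0 : x 1 = y 1 := congrFun hxy 0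
      have h1 : γ * x 2 = γ * y 2 := congrFun hxy 1
      have h2 : γ ^ 2 * x 0 = γ ^ 2 * y 0 := congrFun hxy 2
      funext i; fin_cases i
      · show x 0 = y 0; linear_combination γ * h2 - (x 0 - y 0) * hg
      · exact h0
      · show x 2 = y 2; linear_combination γ ^ 2 * h1 - (x 2 - y 2) * hg
    refine ⟨LinearEquiv.ofBijective S ⟨hS, LinearMap.injective_iff_surjective.1 hS⟩, c, hc,
      fun x => ?_, ?_⟩
    · simp [S, eval_form]
      linear_combination ((γ ^ 3 + 1) * x 0 ^ 3 + x 2 ^ 3 - 3 * s * (x 0 * x 1 * x 2)) * hγ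
    · rw [inv_smul_smul₀ hc]
      funext i; fin_cases i <;> simp [S]

/-- A linear map fixing the nine base lines is scalar. -/
lemma eq_smul_of_fix {w : k} (hw : w ^ 2 + w + 1 = 0) (B : (Fin 3 → k) →ₗ[k] (Fin 3 → k))
    (h : ∀ v, v ≠ 0 → IsBase v → ∃ d : k, B v = d • v) :
    ∀ x, B x = (B (Pi.single 0 1) 0) • x := by
  have hw3 : w ^ 3 = 1 := by linear_combination (w - 1) * hw
  have hne : w ≠ 1 := by rintro rfl; norm_num at hw
  have hfam : ∀ γ : k, γ ^ 3 = 1 →
      (B (Pi.single 0 1) 2 - γ * B (Pi.single 1 1) 2 = 0 ∧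
        B (Pi.single 0 1) 1 - γ * B (Pi.single 1 1) 1
          = -γ * (B (Pi.single 0 1) 0 - γ * B (Pi.single 1 1) 0)) ∧
      (B (Pi.single 1 1) 0 - γ * B (Pi.single 2 1) 0 = 0 ∧
        B (Pi.single 1 1) 2 - γ * B (Pi.single 2 1) 2
          = -γ * (B (Pi.single 1 1) 1 - γ * B (Pi.single 2 1) 1)) := by
    intro γ hγ
    obtain ⟨d, hd⟩ := h ![1, -γ, 0] (fun he => by simpa using congrFun he 0)
      ⟨γ, 1, hγ, Or.inr (Or.inr (one_smul _ _).symm)⟩
    obtain ⟨d', hd'⟩ := h ![0, 1, -γ] (fun he => by simpa using congrFun he 1)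
      ⟨γ, 1, hγ, Or.inl (one_smul _ _).symm⟩
    rw [show (![1, -γ, 0] : Fin 3 → k) = Pi.single 0 1 - γ • Pi.single 1 1 by
      funext i; fin_cases i <;> simp, map_sub, map_smul] at hd
    rw [show (![0, 1, -γ] : Fin 3 → k) = Pi.single 1 1 - γ • Pi.single 2 1 by
      funext i; fin_cases i <;> simp, map_sub, map_smul] at hd'
    have a0 := congrFun hd 0
    have a1 := congrFun hd 1
    have a2 := congrFun hd 2
    have b0 := congrFun hd' 0
    have b1 := congrFun hd' 1
    have b2 := congrFun hd' 2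
    simp at a0 a1 a2 b0 b1 b2
    refine ⟨⟨?_, ?_⟩, ?_, ?_⟩
    · linear_combination a2
    · linear_combination a1 + γ * a0
    · linear_combination b0
    · linear_combination b2 + γ * b1
  obtain ⟨⟨p1, q1⟩, r1, s1⟩ := hfam 1 (one_pow 3)
  obtain ⟨⟨p2, q2⟩, r2, s2⟩ := hfam w hw3
  obtain ⟨⟨-, q3⟩, -, s3⟩ := hfam (w ^ 2) (by linear_combination (w ^ 3 + 1) * hw3)
  have hd : (1 : k) - w ≠ 0 := sub_ne_zero.2 (Ne.symm hne)
  have b12 : B (Pi.single 1 1) 2 = 0 :=
    (mul_eq_zero.1 (show (1 - w) * B (Pi.single 1 1) 2 = 0 by linear_combination p2 - p1)).resolve_left hd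
  have a02 : B (Pi.single 0 1) 2 = 0 := by linear_combination p1 + b12
  have b20 : B (Pi.single 2 1) 0 = 0 :=
    (mul_eq_zero.1 (show (1 - w) * B (Pi.single 2 1) 0 = 0 by linear_combination r2 - r1)).resolve_left hd
  have b10 : B (Pi.single 1 1) 0 = 0 := by linear_combination r1 + b20
  have a01 : B (Pi.single 0 1) 1 = 0 := by
    linear_combination (q1 + q2 + q3) / 3 + (B (Pi.single 1 1) 1 - B (Pi.single 0 1) 0) * hw / 3
      + (w ^ 2 - w + 1) * B (Pi.single 1 1) 0 * hw / 3
  have h00 : B (Pi.single 1 1) 1 = B (Pi.single 0 1) 0 := by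
    rw [a01, b10] at q1; linear_combination -q1
  have b21 : B (Pi.single 2 1) 1 = 0 := by
    rw [b12] at s1 s2
    exact (mul_eq_zero.1 (show (1 - w) * B (Pi.single 2 1) 1 = 0 by
      linear_combination s2 * w ^ 2 - s1
        + (w * B (Pi.single 2 1) 1 - (B (Pi.single 1 1) 1 - B (Pi.single 2 1) 2)) * hw3)).resolve_left hd
  have h22 : B (Pi.single 2 1) 2 = B (Pi.single 0 1) 0 := by
    rw [b12, b21] at s1; linear_combination h00 - s1
  intro x
  conv_lhs => rw [pi_eq_sum_univ' x]
  rw [Fin.sum_univ_three, map_add, map_add, map_smul, map_smul, map_smul]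
  funext i
  fin_cases i <;> simp [a01, a02, b10, b12, b20, b21, h00, h22, mul_comm]

end Groth.Agent.CubicLead
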