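import Groth.Agent.CubicLead.Eckardt
import Mathlib.FieldTheory.IsAlgClosed.Basic
import Mathlib.Algebra.Polynomial.FieldDivision

/-! Lines on a smooth cubic surface through one point. -/

set_option autoImplicit false

namespace Groth.Agent.CubicLead

open MvPolynomial

variable {k : Type*} [Field k] [CharZero k] {f : MvPolynomial (Fin 4) k}
  {c : Fin 4 → Fin 4 → Fin 4 → k}

/-- The restriction of the cubic to the affine line `y2 + s • y1`. -/
noncomputable def lineP (c : Fin 4 → Fin 4 → Fin 4 → k) (y1 y2 : Fin 4 → k) : Polynomial k :=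
  Polynomial.C (tri c y1 y1 y1) * Polynomial.X ^ 3 + Polynomial.C (quad c y2 y1) * Polynomial.X ^ 2
    + Polynomial.C (quad c y1 y2) * Polynomial.X + Polynomial.C (tri c y2 y2 y2)

lemma eval_lineP (hc : Rep c f) (y1 y2 : Fin 4 → k) (s : k) :
    (lineP c y1 y2).eval s = eval (y2 + s • y1) f := by
  rw [hc.expand, hc.eval_eq, hc.eval_eq]
  simp only [lineP, Polynomial.eval_add, Polynomial.eval_mul, Polynomial.eval_C,
    Polynomial.eval_pow, Polynomial.eval_X]
  ring

lemma derivative_lineP (y1 y2 : Fin 4 → k) (s : k) :
    (lineP c y1 y2).derivative.eval s = quad c y1 (y2 + s • y1) := by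
  simp only [lineP, map_add, Polynomial.derivative_C_mul, Polynomial.derivative_X_pow,
    Polynomial.derivative_X, Polynomial.derivative_C, Polynomial.eval_add, Polynomial.eval_mul,
    Polynomial.eval_C, Polynomial.eval_pow, Polynomial.eval_X, Polynomial.eval_one,
    Polynomial.eval_zero, Nat.cast_ofNat]
  simp only [quad, tri_add₁, tri_add₂, tri_add₃, tri_smul₁, tri_smul₂, tri_smul₃]
  ring

lemma natDegree_lineP (hc : Rep c f) {y1 : Fin 4 → k} (h : eval y1 f ≠ 0) (y2 : Fin 4 → k) :
    (lineP c y1 y2).natDegree = 3 := by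
  rw [hc.eval_eq] at h
  rw [lineP]
  compute_degree!

variable [IsAlgClosed k]

/-- An adapted basis of the tangent plane. -/
lemma exists_tangent_basis (hc : Rep c f) (hsm : Sm f) {p : Fin 4 → k} (hp : p ≠ 0)
    (hfp : eval p f = 0) : ∃ y1 y2, grad c p y1 = 0 ∧ grad c p y2 = 0 ∧ eval y1 f ≠ 0 ∧
      LinearMap.ker (grad c p) = Submodule.span k (Set.range ![p, y1, y2]) ∧
      LinearIndependent k ![p, y1, y2] := by
  obtain ⟨y1, h1, hf1⟩ : ∃ y, grad c p y = 0 ∧ eval y f ≠ 0 := by
    by_contra hh
    simp only [not_exists, not_and, not_not] at hh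
    exact no_plane hc hsm hp hfp hh
  have hl := hc.grad_ne_zero hsm hp hfp
  have hy1 : y1 ∉ Submodule.span k {p} := fun hm => by
    obtain ⟨a, rfl⟩ := Submodule.mem_span_singleton.1 hm
    exact hf1 (by rw [hc.eval_smul, hfp, mul_zero])
  obtain ⟨y2, h2, hy2⟩ : ∃ y, y ∈ LinearMap.ker (grad c p) ∧ y ∉ Submodule.span k {p, y1} := by
    apply SetLike.not_le_iff_exists.1
    intro hle
    have := Submodule.finrank_mono hle
    classical
    have h2 := finrank_span_finset_le_card (R := k) ({p, y1} : Finset (Fin 4 → k))
    rw [Finset.coe_pair] at h2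
    rw [finrank_ker hl] at this
    have := Finset.card_le_two (a := p) (b := y1)
    unfold Set.finrank at h2
    omega
  have hli : LinearIndependent k ![y2, p, y1] := by
    rw [show (![y2, p, y1] : Fin 3 → Fin 4 → k) = Fin.cons y2 ![p, y1] from rfl,
      linearIndependent_finCons, Matrix.range_cons_cons_empty]
    refine ⟨?_, hy2⟩
    rw [LinearIndependent.pair_iff' hp]
    intro x hx
    exact hy1 (hx ▸ Submodule.smul_mem _ x (Submodule.mem_span_singleton_self p))
  have hli' : LinearIndependent k ![p, y1, y2] := by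
    have := hli.comp ![1, 2, 0] (by decide)
    convert this using 1
    funext i; fin_cases i <;> rfl
  refine ⟨y1, y2, h1, h2, hf1, (Submodule.eq_of_le_of_finrank_le ?_ ?_).symm, hli'⟩
  · rw [Submodule.span_le]
    rintro x ⟨i, rfl⟩
    fin_cases i
    · show grad c p p = 0
      rw [grad_apply, hc.quad_self, hfp, mul_zero]
    · exact h1
    · exact h2
  · rw [finrank_span_eq_card hli', Fintype.card_fin, finrank_ker hl]

omit [IsAlgClosed k] in
/-- A line of the surface through `p` lies in the tangent plane. -/
lemma line_le_tangent (hc : Rep c f) {p : Fin 4 → k} {U : Submodule k (Fin 4 → k)} (hp : p ∈ U)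
    (hU : ∀ u ∈ U, eval u f = 0) : U ≤ LinearMap.ker (grad c p) := fun u hu =>
  (quad_of_expand hc (hU p hp) (a := 0) (b := 0) (fun t => by
    rw [hU _ (U.add_mem hu (U.smul_mem t hp)), hU u hu]; ring)).2

/-- Through a point of a smooth cubic surface there are at most three lines of the surface. -/
lemma lines_le_three (hc : Rep c f) (hsm : Sm f) {p : Fin 4 → k} (hp : p ≠ 0)
    (hfp : eval p f = 0) :
    let L := {U : Submodule k (Fin 4 → k) |
      p ∈ U ∧ (Module.finrank k ↥U = 2 ∧ ∀ u ∈ U, eval u f = 0)}
    L.Finite ∧ L.ncard ≤ 3 := by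
  classical
  intro L
  obtain ⟨y1, y2, -, -, hf1, hker, -⟩ := exists_tangent_basis hc hsm hp hfp
  let S := (lineP c y1 y2).roots.toFinset.image fun s => Submodule.span k {p, y2 + s • y1}
  have hsub : L ⊆ ↑S := by
    rintro U ⟨hpU, hU2, hU⟩
    obtain ⟨u, hu, hu', hUe⟩ := exists_in_line U hU2 hp hpU
    have hm : u ∈ LinearMap.ker (grad c p) := line_le_tangent hc hpU hU hu
    rw [hker, Submodule.mem_span_range_iff_exists_fun] at hm
    obtain ⟨g, hg⟩ := hm
    rw [Fin.sum_univ_three] at hg
    change g 0 • p + g 1 • y1 + g 2 • y2 = u at hg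
    have hy : g 1 • y1 + g 2 • y2 ∈ U := by
      have := U.sub_mem hu (U.smul_mem (g 0) hpU)
      rwa [← hg, add_assoc, add_sub_cancel_left] at this
    have hd : g 2 ≠ 0 := by
      intro hd
      rw [hd, zero_smul, add_zero] at hy hg
      have h3 := hU _ hy
      rw [hc.eval_smul] at h3
      have : g 1 = 0 := eq_zero_of_pow_eq_zero ((mul_eq_zero.1 h3).resolve_right hf1)
      exact hu' (by rw [← hg, this, zero_smul, add_zero]
                    exact Submodule.smul_mem _ _ (Submodule.mem_span_singleton_self p))
    set s := g 1 / g 2 with hs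
    have hz : y2 + s • y1 ∈ U := by
      have := U.smul_mem (g 2)⁻¹ hy
      rw [smul_add, smul_smul, smul_smul, inv_mul_cancel₀ hd, one_smul, add_comm,
        show (g 2)⁻¹ * g 1 = s by rw [hs]; ring] at this
      exact this
    have hne : lineP c y1 y2 ≠ 0 := fun h0 => by
      simpa [h0] using natDegree_lineP hc hf1 y2
    refine Finset.mem_coe.2 (Finset.mem_image.2 ⟨s, ?_, ?_⟩)
    · rw [Multiset.mem_toFinset, Polynomial.mem_roots hne, Polynomial.IsRoot, eval_lineP hc]
      exact hU _ hz
    · apply le_antisymm
      · rw [Submodule.span_le]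
        rintro x (rfl | rfl)
        · exact hpU
        · exact hz
      · rw [hUe, Submodule.span_le]
        rintro x (rfl | rfl)
        · exact Submodule.subset_span (by simp)
        · rw [← hg, SetLike.mem_coe, Submodule.mem_span_pair]
          refine ⟨g 0, g 2, ?_⟩
          rw [smul_add, smul_smul, show g 2 * s = g 1 by rw [hs]; field_simp]
          abel
  refine ⟨S.finite_toSet.subset hsub, ?_⟩
  calc L.ncard ≤ (↑S : Set _).ncard := Set.ncard_le_ncard hsub S.finite_toSet
    _ = S.card := Set.ncard_coe_finset S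
    _ ≤ (lineP c y1 y2).roots.toFinset.card := Finset.card_image_le
    _ ≤ Multiset.card (lineP c y1 y2).roots := Multiset.toFinset_card_le _
    _ ≤ (lineP c y1 y2).natDegree := Polynomial.card_roots' _
    _ = 3 := natDegree_lineP hc hf1 y2

/-- The isolated fixed point of a harmonic homology is an Eckardt point. -/
lemma eck_of_split (hc : Rep c f) (hsm : Sm f) {p : Fin 4 → k} (hp : p ≠ 0)
    (hfp : eval p f = 0) {m : (Fin 4 → k) →ₗ[k] k} (hs : Split f p (grad c p) m) : Eck f p := by
  classical
  obtain ⟨y1, y2, h1, h2, hf1, hker, hli⟩ := exists_tangent_basis hc hsm hp hfp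
  have hgp : grad c p p = 0 := hs.1
  set P := lineP c y1 y2 with hP
  have hne : P ≠ 0 := fun h0 => by
    simpa [P, h0] using natDegree_lineP hc hf1 y2
  have hz0 : ∀ s : k, grad c p (y2 + s • y1) = 0 := fun s => by
    rw [map_add, map_smul, h1, h2, smul_zero, add_zero]
  have hline : ∀ (z : Fin 4 → k), grad c p z = 0 → ∀ a b : k,
      eval (b • z + a • p) f = b ^ 3 * eval z f := by
    intro z hz a b
    rw [hs.2.2.2, map_smul, hz, smul_zero, zero_mul, add_zero, hc.eval_smul]
  have hq0 : ∀ v, grad c p v = 0 → quad c p v = 0 := by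
    intro v hv
    have := (quad_of_expand hc hfp (a := 0) (b := 0) (v := v) (e := p) fun t => by
      rw [hs.2.2.2, hv]; ring)
    exact this.1
  have hspan : ∀ h, grad c p h = 0 → ∃ a b d : k, h = a • p + b • y1 + d • y2 := by
    intro h hh
    have hm : h ∈ LinearMap.ker (grad c p) := hh
    rw [hker, Submodule.mem_span_range_iff_exists_fun] at hm
    obtain ⟨g, hg⟩ := hm
    exact ⟨g 0, g 1, g 2, by rw [← hg, Fin.sum_univ_three]; rfl⟩
  have hnodup : P.roots.Nodup := by
    rw [Multiset.nodup_iff_count_le_one]
    intro s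
    rw [Polynomial.count_roots]
    by_contra hcon
    rw [not_le, Polynomial.one_lt_rootMultiplicity_iff_isRoot hne] at hcon
    obtain ⟨hr, hd⟩ := hcon
    rw [Polynomial.IsRoot, hP, eval_lineP hc] at hr
    rw [Polynomial.IsRoot, hP, derivative_lineP] at hd
    set z := y2 + s • y1 with hz
    have hzp : z ∉ Submodule.span k {p} := by
      intro hm
      obtain ⟨a, ha⟩ := Submodule.mem_span_singleton.1 hm
      have := Fintype.linearIndependent_iff.1 hli ![-a, s, 1] (by
        rw [Fin.sum_univ_three]
        show -a • p + s • y1 + (1 : k) • y2 = 0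
        rw [neg_smul, ha, hz, one_smul]; abel) 2
      exact one_ne_zero (α := k) this
    have hgz : ∀ h, grad c p h = 0 → grad c z h = 0 := by
      intro h hh
      obtain ⟨a, b, d, rfl⟩ := hspan h hh
      have e1 : grad c z p = 0 := hq0 z (hz0 s)
      have e2 : grad c z y1 = 0 := hd
      have e3 : grad c z y2 = 0 := by
        have h3 : grad c z z = 0 := by rw [grad_apply, hc.quad_self, hr, mul_zero]
        conv_lhs at h3 => arg 2; rw [hz]
        rw [map_add, map_smul, e2, smul_zero, add_zero] at h3
        exact h3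
      rw [map_add, map_add, map_smul, map_smul, map_smul, e1, e2, e3]
      simp
    refine no_cone hc hsm hp hfp hzp (fun a => ?_) fun a h hh => ?_
    · have := hline z (hz0 s) a 1
      rwa [one_smul, one_pow, one_mul, hr] at this
    · have h4 : sym c h z p = 0 := by
        have e := quad_add_right (c := c) p h z
        rw [hq0 _ (by rw [map_add, hh, hz0 s, add_zero]), hq0 h hh, hq0 z (hz0 s)] at e
        rw [show sym c h z p = sym c p h z by simp only [sym]; ring]
        linear_combination -e
      rw [grad_apply, quad_add_right, quad_smul_right,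
        show sym c h z (a • p) = a * sym c h z p by
          simp only [sym, tri_smul₁, tri_smul₂, tri_smul₃]; ring,
        h4, show quad c h p = 0 from hh, show quad c h z = 0 from hgz h hh]
      ring
  have hcard : P.roots.toFinset.card = 3 := by
    rw [Multiset.toFinset_card_of_nodup hnodup, hP,
      (IsAlgClosed.splits (lineP c y1 y2)).natDegree_eq_card_roots.symm, natDegree_lineP hc hf1 y2]
  let e := P.roots.toFinset.equivFinOfCardEq hcard
  have hroot : ∀ i, eval (y2 + ((e.symm i : k)) • y1) f = 0 := fun i => by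
    have := Multiset.mem_toFinset.1 (e.symm i).2
    rw [Polynomial.mem_roots hne] at this
    exact (eval_lineP hc y1 y2 _).symm.trans this
  refine ⟨fun i => Submodule.span k {p, y2 + ((e.symm i : k)) • y1}, fun i j hij => ?_,
    fun i => ⟨?_, Submodule.subset_span (by simp), ?_⟩⟩
  · have hm : y2 + ((e.symm i : k)) • y1 ∈ Submodule.span k {p, y2 + ((e.symm j : k)) • y1} := by
      simp only at hij
      rw [← hij]
      exact Submodule.subset_span (by simp)
    obtain ⟨a, b, hab⟩ := Submodule.mem_span_pair.1 hm
    have hl := Fintype.linearIndependent_iff.1 hli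
      ![a, b * (e.symm j : k) - (e.symm i : k), b - 1] (by
        rw [Fin.sum_univ_three]
        show a • p + (b * (e.symm j : k) - (e.symm i : k)) • y1 + (b - 1) • y2 = 0
        linear_combination (norm := module) hab)
    have h3 : b = 1 := sub_eq_zero.1 (hl 2)
    have h4 : b * (e.symm j : k) - (e.symm i : k) = 0 := hl 1
    rw [h3, one_mul, sub_eq_zero] at h4
    exact e.symm.injective (Subtype.ext h4.symm)
  · have hli2 : LinearIndependent k ![p, y2 + ((e.symm i : k)) • y1] := by
      rw [LinearIndependent.pair_iff' hp]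
      intro a ha
      have := Fintype.linearIndependent_iff.1 hli ![-a, (e.symm i : k), 1] (by
        rw [Fin.sum_univ_three]
        show -a • p + (e.symm i : k) • y1 + (1 : k) • y2 = 0
        linear_combination (norm := module) -ha) 2
      exact one_ne_zero (α := k) this
    have := finrank_span_eq_card hli2
    rwa [Fintype.card_fin, Matrix.range_cons_cons_empty] at this
  · intro u hu
    obtain ⟨a, b, rfl⟩ := Submodule.mem_span_pair.1 hu
    rw [add_comm, hline _ (hz0 _), hroot, mul_zero]

/-- A harmonic homology with isolated fixed point on the surface gives a split expansion. -/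
lemma split_of_isInv (hc : Rep c f) (hsm : Sm f) {p : Fin 4 → k} (hp : p ≠ 0)
    (hfp : eval p f = 0) {A : Matrix (Fin 4) (Fin 4) k} (h : IsInv f A p) :
    ∃ m, Split f p (grad c p) m := by
  obtain ⟨μ, hμp, -, hμf⟩ := h.exists_refl hc hsm hp hfp
  have hgp : grad c p p = 0 := by rw [grad_apply, hc.quad_self, hfp, mul_zero]
  have hexp : ∀ v (t : k),
      eval (v + t • p) f = eval v f + t * quad c p v + t ^ 2 * grad c p v := by
    intro v t; rw [hc.expand, hfp, grad_apply]; ring
  have h1 : ∀ v, μ v ≠ 0 → quad c p v = μ v * grad c p v := by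
    intro v hv
    have := hμf v
    rw [refl_apply, sub_eq_add_neg, ← neg_smul, hexp] at this
    have : μ v * (μ v * grad c p v - quad c p v) = 0 := by linear_combination this
    linear_combination -((mul_eq_zero.1 this).resolve_left hv)
  have h2 : ∀ v, quad c p v = μ v * grad c p v := by
    intro v
    by_cases hv : μ v = 0
    · have := h1 (v + p) (by rw [map_add, hv, hμp, zero_add]; exact two_ne_zero)
      rw [quad_add_right, hc.quad_self, hfp, map_add, map_add, hv, hμp, hgp,
        show sym c p v p = 2 * grad c p v by rw [grad_apply]; simp only [sym, quad]; ring] at this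
      rw [hv, zero_mul]
      linear_combination this
    · exact h1 v hv
  exact ⟨μ, hgp, hc.grad_ne_zero hsm hp hfp, hμp, fun v t => by rw [hexp, h2]; ring⟩

end Groth.Agent.CubicLead
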